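import Cfsg.Agent.Lib.OrthMinusMinDegree.Propagate
import Cfsg.Agent.EqLemmas
/-
Small representations: one line for each singular vector at every level, nothing for the others.
* degSum and its closed form; Small; thin (M k v), full (singular ones occur), E_bottom
* finrank_E_step; bound_of_fix: dim E n + 1 < n
-/
set_option autoImplicit false
set_option linter.unusedSectionVars false

namespace Cfsg.Agent.OrthMinusMinDegree

open Cfsg Module
open Cfsg.Agent.Orth
open Cfsg.Agent.SUMinDegree (rep_injective)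
open QuadraticMap (polar)

variable {ι : Type} [Fintype ι] [DecidableEq ι] {F : Type*} [Field F] [Fintype F]
variable {Q : QuadraticForm F (ι → F)} {n : ℕ} (Φ : Frame Q n)
variable {V : Type} [AddCommGroup V] [Module ℂ V] [FiniteDimensional ℂ V] (ρ : Representation ℂ (OG Q) V)

namespace Frame

/-- `S 1 + ... + S j`. -/
def degSum (q : ℕ) : ℕ → ℕ
  | 0 => 0
  | j + 1 => degSum q j + singCount q (j + 1)

theorem singCount_closed {q : ℕ} (hq : 1 ≤ q) (j : ℕ) :
    (singCount q j : ℤ) = (q : ℤ) ^ (2 * j + 1) - (q : ℤ) ^ (j + 1) + (q : ℤ) ^ j := by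
  induction j with
  | zero => simp [singCount]
  | succ j ih =>
    rw [singCount, Nat.cast_add, Nat.cast_mul, Nat.cast_mul, Nat.cast_sub hq, Nat.cast_pow, ih]
    push_cast
    ring

theorem degSum_closed {q : ℕ} (hq : 1 ≤ q) (j : ℕ) :
    ((q : ℤ) ^ 2 - 1) * degSum q j = ((q : ℤ) ^ (j + 2) + 1) * ((q : ℤ) ^ (j + 1) - q) := by
  induction j with
  | zero => simp [degSum]
  | succ j ih =>
    rw [degSum, Nat.cast_add, mul_add, ih, singCount_closed hq]
    ring

theorem one_le_singCount {q : ℕ} (hq : 1 ≤ q) (j : ℕ) : 1 ≤ singCount q j := by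
  induction j with
  | zero => exact le_rfl
  | succ j ih => exact le_add_left (one_le_mul hq ih)

theorem singCount_double {q : ℕ} (hq : 2 ≤ q) (j : ℕ) : 2 * singCount q j ≤ singCount q (j + 1) := by
  have := Nat.mul_le_mul_right (singCount q j) hq
  rw [singCount]; omega

theorem degSum_le {q : ℕ} (hq : 2 ≤ q) {j : ℕ} (hj : 2 ≤ j) : degSum q j + 2 ≤ 2 * singCount q j := by
  induction j, hj using Nat.le_induction with
  | base =>
    have h1 := singCount_double hq 1
    have h2 : 2 ≤ singCount q 1 := by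
      have := singCount_double hq 0
      simpa [singCount] using this
    show 0 + singCount q 1 + singCount q 2 + 2 ≤ 2 * singCount q 2
    change 2 * singCount q 1 ≤ singCount q 2 at h1
    omega
  | succ j _ ih =>
    have h1 := singCount_double hq j
    rw [degSum]; omega

/-- The hypothesis to be refuted: the degree is below `(q^{n+1}+1)(q^n-q)/(q^2-1)`. -/
structure Small : Prop where
  hn : 3 ≤ n
  moves : Φ.E ρ 1 ≠ ⊤
  small : (Fintype.card F ^ 2 - 1) * finrank ℂ V < (Fintype.card F ^ (n + 1) + 1) * (Fintype.card F ^ n - Fintype.card F)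

variable {Φ ρ}

theorem two_le_card : 2 ≤ Fintype.card F := Fintype.one_lt_card

theorem Small.dim_lt (h : Φ.Small ρ) : finrank ℂ V < degSum (Fintype.card F) (n - 1) := by
  have hn := h.hn
  have hq := two_le_card (F := F)
  have h1 := degSum_closed (q := Fintype.card F) (by omega) (n - 1)
  rw [show n - 1 + 2 = n + 1 by omega, show n - 1 + 1 = n by omega] at h1
  have h2 : ((Fintype.card F ^ 2 - 1) * finrank ℂ V : ℕ) < ((Fintype.card F ^ (n + 1) + 1) *
      (Fintype.card F ^ n - Fintype.card F) : ℕ) := h.small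
  zify [Nat.one_le_pow 2 (Fintype.card F) (by omega),
    Nat.le_self_pow (show n ≠ 0 by omega) (Fintype.card F)] at h2
  rw [← h1] at h2
  have h3 : (0 : ℤ) ≤ (Fintype.card F : ℤ) ^ 2 - 1 := by
    have : (2 : ℤ) ≤ Fintype.card F := by exact_mod_cast hq
    nlinarith
  exact_mod_cast lt_of_mul_lt_mul_left h2 h3

theorem card_mul_le {k : ℕ} (hk : k < n) [Fintype (Φ.W k)] (s : Finset (Φ.W k)) (b : ℕ)
    (h : ∀ w ∈ s, b ≤ finrank ℂ (Φ.M ρ k w.1)) : b * s.card ≤ finrank ℂ (Φ.E ρ k) := by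
  rw [← Φ.sum_finrank_M ρ hk, mul_comm]
  calc s.card * b = ∑ _w ∈ s, b := by rw [Finset.sum_const, smul_eq_mul]
    _ ≤ ∑ w ∈ s, finrank ℂ (Φ.M ρ k w.1) := Finset.sum_le_sum h
    _ ≤ _ := Finset.sum_le_sum_of_subset (Finset.subset_univ _)

theorem card_norm_le {j k : ℕ} (hj : k + j + 1 = n) (c : F) [Fintype (Φ.W k)] [DecidableEq F] :
    singCount (Fintype.card F) j ≤ (Finset.univ.filter fun w : Φ.W k => Q w.1 = c).card := by
  have h1 := Φ.singCount_le_norm j (by omega) (c := c)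
  rwa [show n - 1 - j = k by omega, Nat.card_eq_fintype_card, Fintype.card_subtype] at h1

theorem card_sing {j k : ℕ} (hj : k + j + 1 = n) [Fintype (Φ.W k)] [DecidableEq (Φ.W k)] [DecidableEq F] :
    ((Finset.univ.filter fun w : Φ.W k => Q w.1 = 0).erase 0).card + 1 = singCount (Fintype.card F) j := by
  have h1 := Φ.card_singular j (by omega)
  rw [show n - 1 - j = k by omega, Nat.card_eq_fintype_card, Fintype.card_subtype] at h1
  rw [← h1, Finset.card_erase_add_one (by simp)]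

theorem Small.finrank_le_one (h : Φ.Small ρ) {v : ι → F} (hv : v ∈ Φ.W 0) (hv0 : v ≠ 0) :
    finrank ℂ (Φ.M ρ 0 v) ≤ 1 := by
  classical
  have hn := h.hn
  by_contra! hlt
  have := Fintype.ofFinite (Φ.W 0)
  have hd := h.dim_lt
  rw [← finrank_top ℂ V, ← Φ.E_zero ρ] at hd
  have hle := degSum_le (two_le_card (F := F)) (show 2 ≤ n - 1 by omega)
  rcases eq_or_ne (Q v) 0 with hQ | hQ
  · have h1 := card_mul_le (ρ := ρ) (show 0 < n by omega)
      ((Finset.univ.filter fun w : Φ.W 0 => Q w.1 = 0).erase 0) 2 fun w hw => by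
        obtain ⟨hw0, hwQ⟩ : w ≠ 0 ∧ Q w.1 = 0 := by simpa using hw
        rw [(Φ.finrank_M_reduce ρ hn (k := 0) (by omega) w.2 fun hz => hw0 (Subtype.ext hz)).1 hwQ,
          ← (Φ.finrank_M_reduce ρ hn (k := 0) (by omega) hv hv0).1 hQ]
        omega
    have h2 := card_sing (Φ := Φ) (show 0 + (n - 1) + 1 = n by omega)
    omega
  · have h1 := card_mul_le (ρ := ρ) (show 0 < n by omega) (Finset.univ.filter fun w : Φ.W 0 => Q w.1 = Q v) 2
      fun w hw => by
        have hwQ : Q w.1 = Q v := by simpa using hw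
        have hw0 : w.1 ≠ 0 := fun hz => hQ (by rw [← hwQ, hz, QuadraticMap.map_zero])
        rw [(Φ.finrank_M_reduce ρ hn (k := 0) (by omega) w.2 hw0).2 (by rwa [hwQ]), hwQ,
          ← (Φ.finrank_M_reduce ρ hn (k := 0) (by omega) hv hv0).2 hQ]
        omega
    have h2 := card_norm_le (Φ := Φ) (show 0 + (n - 1) + 1 = n by omega) (Q v)
    omega

theorem Small.le_one (h : Φ.Small ρ) {k : ℕ} (hk : k < n) {v : ι → F} (hv : v ∈ Φ.W k) (hv0 : v ≠ 0) :
    finrank ℂ (Φ.M ρ k v) ≤ 1 := by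
  induction k generalizing v with
  | zero => exact h.finrank_le_one hv hv0
  | succ k ih =>
    have := Fintype.ofFinite (Φ.W k)
    exact (Φ.upper ρ hk hv hv0).trans
      (ih (v := -v) (by omega) (neg_mem (W_anti (Nat.le_succ k) hv)) (neg_ne_zero.2 hv0))

theorem Small.dichotomy (h : Φ.Small ρ) {v : ι → F} (hv : v ∈ Φ.W 0) (hQ : Q v ≠ 0) (hne : Φ.M ρ 0 v ≠ ⊥)
    {k : ℕ} (hk : k < n) {w : ι → F} (hw : w ∈ Φ.W k) (hw0 : w ≠ 0) (hwQ : Q w = 0) : Φ.M ρ k w = ⊥ := by
  classical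
  induction k generalizing w with
  | succ k ih =>
    have := Fintype.ofFinite (Φ.W k)
    refine Submodule.finrank_eq_zero.1 (Nat.le_zero.1 ((Φ.upper ρ hk hw hw0).trans ?_))
    rw [ih (by omega) (neg_mem (W_anti (Nat.le_succ k) hw)) (neg_ne_zero.2 hw0)
      (by rw [QuadraticMap.map_neg, hwQ]), finrank_bot]
  | zero =>
    have hn := h.hn
    by_contra hwne
    have := Fintype.ofFinite (Φ.W 0)
    have hd := h.dim_lt
    rw [← finrank_top ℂ V, ← Φ.E_zero ρ] at hd
    have hle := degSum_le (two_le_card (F := F)) (show 2 ≤ n - 1 by omega)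
    have hv0 : v ≠ 0 := fun hz => hQ (by rw [hz, QuadraticMap.map_zero])
    have h1 := card_mul_le (ρ := ρ) (show 0 < n by omega)
      ((Finset.univ.filter fun u : Φ.W 0 => Q u.1 = 0).erase 0 ∪ Finset.univ.filter fun u : Φ.W 0 => Q u.1 = Q v)
      1 fun u hu => by
        rcases Finset.mem_union.1 hu with hu | hu
        · obtain ⟨hu0, huQ⟩ : u ≠ 0 ∧ Q u.1 = 0 := by simpa using hu
          rw [(Φ.finrank_M_reduce ρ hn (k := 0) (by omega) u.2 fun hz => hu0 (Subtype.ext hz)).1 huQ,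
            ← (Φ.finrank_M_reduce ρ hn (k := 0) (by omega) hw hw0).1 hwQ]
          exact Submodule.one_le_finrank_iff.2 hwne
        · have huQ : Q u.1 = Q v := by simpa using hu
          have hu0 : u.1 ≠ 0 := fun hz => hQ (by rw [← huQ, hz, QuadraticMap.map_zero])
          rw [(Φ.finrank_M_reduce ρ hn (k := 0) (by omega) u.2 hu0).2 (by rwa [huQ]), huQ,
            ← (Φ.finrank_M_reduce ρ hn (k := 0) (by omega) hv hv0).2 hQ]
          exact Submodule.one_le_finrank_iff.2 hne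
    rw [Finset.card_union_of_disjoint (Finset.disjoint_left.2 fun u hu hu' => hQ (by
      simp only [Finset.mem_erase, Finset.mem_filter] at hu hu'
      rw [← hu'.2, hu.2.2]))] at h1
    have h2 := card_sing (Φ := Φ) (show 0 + (n - 1) + 1 = n by omega)
    have h3 := card_norm_le (Φ := Φ) (show 0 + (n - 1) + 1 = n by omega) (Q v)
    omega

theorem Q_pair {i : ℕ} (hi : i < n) (c : F) : Q (Φ.e i + c • Φ.f i) = c := by
  rw [Q_add, Q_smul, Φ.qe i hi, Φ.qf i hi, pl_smul_right, Φ.pef i hi]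
  ring

theorem Small.finrank_nonsingular (h : Φ.Small ρ) {v : ι → F} (hv : v ∈ Φ.W 0) (hQ : Q v ≠ 0) :
    Φ.M ρ 0 v = ⊥ := by
  classical
  by_contra hne
  have hn := h.hn
  obtain ⟨c, hc⟩ : ∃ c, c = Q v := ⟨_, rfl⟩
  have hc0 : c ≠ 0 := hc ▸ hQ
  have hne0 : ∀ {x : ι → F}, Q x = c → x ≠ 0 := fun hx hz => hc0 (by rw [← hx, hz, QuadraticMap.map_zero])
  have hpos : ∀ k, k + 1 < n → ∀ w ∈ Φ.W k, Q w = c → 1 ≤ finrank ℂ (Φ.M ρ k w) := by
    intro k
    induction k with
    | zero =>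
      intro hk w hw hwQ
      rw [(Φ.finrank_M_reduce ρ hn hk hw (hne0 hwQ)).2 (by rwa [hwQ]), hwQ, hc,
        ← (Φ.finrank_M_reduce ρ hn hk hv (hne0 hc.symm)).2 hQ]
      exact Submodule.one_le_finrank_iff.2 hne
    | succ k ih =>
      intro hk w hw hwQ
      have := Fintype.ofFinite (Φ.W k)
      have hk2 : k + 2 < n := hk
      have hm : Φ.e (k + 2) + c • Φ.f (k + 2) ∈ Φ.W k := add_mem (e_mem_W hk2 (by omega))
        (Submodule.smul_mem _ _ (f_mem_W hk2 (by omega)))
      rw [(Φ.finrank_M_reduce ρ hn hk hw (hne0 hwQ)).2 (by rwa [hwQ]), hwQ]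
      refine Submodule.one_le_finrank_iff.2 (Φ.lower ρ hk2 (fun x hx hx0 => h.le_one (by omega) hx hx0) c
        (fun _ x hx hx0 hxQ => h.dichotomy hv hQ hne (by omega) hx hx0 hxQ) ?_)
      exact Submodule.one_le_finrank_iff.1 (ih (by omega) _ (neg_mem hm)
        (by rw [QuadraticMap.map_neg, Q_pair hk2]))
  have key : ∀ j, j < n → degSum (Fintype.card F) j ≤ finrank ℂ (Φ.E ρ (n - 1 - j)) := by
    intro j
    induction j with
    | zero => exact fun _ => Nat.zero_le _
    | succ j ih =>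
      intro hj
      obtain ⟨k, hk⟩ : ∃ k, k + (j + 1) + 1 = n := ⟨n - 1 - (j + 1), by omega⟩
      have := Fintype.ofFinite (Φ.W k)
      have h1 := ih (by omega)
      rw [show n - 1 - j = k + 1 by omega, ← Φ.M_zero ρ (show k < n by omega)] at h1
      have h2 := card_norm_le (Φ := Φ) hk c
      rw [show n - 1 - (j + 1) = k by omega, ← Φ.sum_finrank_M ρ (show k < n by omega),
        ← Finset.add_sum_erase _ _ (Finset.mem_univ (0 : Φ.W k))]
      refine add_le_add h1 (h2.trans ?_)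
      rw [Finset.card_eq_sum_ones]
      refine le_trans (Finset.sum_le_sum fun w hw => hpos k (by omega) w.1 w.2 (by simpa using hw))
        (Finset.sum_le_sum_of_subset fun w hw => Finset.mem_erase.2 ⟨fun hz => ?_, Finset.mem_univ _⟩)
      have hwQ : Q w.1 = c := by simpa using hw
      exact hne0 hwQ (by rw [hz]; rfl)
  have h1 := key (n - 1) (by omega)
  rw [Nat.sub_self, E_zero, finrank_top] at h1
  have := h.dim_lt
  omega

theorem Small.thin (h : Φ.Small ρ) {k : ℕ} (hk : k < n) {v : ι → F} (hv : v ∈ Φ.W k) (hv0 : v ≠ 0) :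
    finrank ℂ (Φ.M ρ k v) ≤ 1 ∧ (Q v ≠ 0 → Φ.M ρ k v = ⊥) := by
  induction k generalizing v with
  | zero => exact ⟨h.finrank_le_one hv hv0, h.finrank_nonsingular hv⟩
  | succ k ih =>
    have := Fintype.ofFinite (Φ.W k)
    have hup := Φ.upper ρ hk hv hv0
    obtain ⟨h1, h2⟩ := ih (v := -v) (by omega) (neg_mem (W_anti (Nat.le_succ k) hv)) (neg_ne_zero.2 hv0)
    refine ⟨hup.trans h1, fun hQ => Submodule.finrank_eq_zero.1 (Nat.le_zero.1 (hup.trans ?_))⟩
    rw [h2 (by rwa [QuadraticMap.map_neg]), finrank_bot]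

theorem singular_transfer (hn : 3 ≤ n) {k : ℕ} (hk : k + 1 < n) {v w : ι → F} (hv : v ∈ Φ.W k)
    (hv0 : v ≠ 0) (hvQ : Q v = 0) (hw : w ∈ Φ.W k) (hw0 : w ≠ 0) (hwQ : Q w = 0) :
    finrank ℂ (Φ.M ρ k v) = finrank ℂ (Φ.M ρ k w) := by
  rw [(Φ.finrank_M_reduce ρ hn hk hv hv0).1 hvQ, (Φ.finrank_M_reduce ρ hn hk hw hw0).1 hwQ]

theorem Small.full (h : Φ.Small ρ) {k : ℕ} (hk : k + 1 < n) {v : ι → F} (hv : v ∈ Φ.W k) (hv0 : v ≠ 0)
    (hQ : Q v = 0) : finrank ℂ (Φ.M ρ k v) = 1 := by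
  have hn := h.hn
  refine le_antisymm (h.thin (by omega) hv hv0).1 ?_
  have hef : ∀ i, i < n → Φ.e i ≠ 0 := fun i hi => (Φ.hpair hi).ne_zero
  induction k generalizing v with
  | zero =>
    by_contra hlt
    refine h.moves (eq_top_iff.2 fun u _ => ?_)
    have := Fintype.ofFinite (Φ.W 0)
    rw [← Φ.M_zero ρ (show 0 < n by omega), ← Φ.sum_pM ρ (show 0 < n by omega) u,
      Finset.sum_eq_single (0 : Φ.W 0)]
    · exact Φ.pM_mem ρ (by omega) (0 : ι → F) (by rw [E_zero]; trivial)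
    · intro w _ hw
      have hw0 : w.1 ≠ 0 := fun hz => hw (Subtype.ext hz)
      have hmem := Φ.pM_mem ρ (show 0 < n by omega) w.1 (u := u) (by rw [E_zero]; trivial)
      have hbot : Φ.M ρ 0 w.1 = ⊥ := by
        rcases ne_or_eq (Q w.1) 0 with hq | hq
        · exact h.finrank_nonsingular w.2 hq
        · exact Submodule.finrank_eq_zero.1 (by
            rw [singular_transfer hn hk w.2 hw0 hq hv hv0 hQ]; omega)
      rw [hbot] at hmem
      exact (Submodule.mem_bot ℂ).1 hmem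
    · exact fun hh => absurd (Finset.mem_univ _) hh
  | succ k ih =>
    have := Fintype.ofFinite (Φ.W k)
    have he := e_mem_W (Φ := Φ) (k := k + 1) (show k + 2 < n by omega) (by omega)
    rw [singular_transfer hn hk hv hv0 hQ he (hef _ (by omega)) (Φ.qe _ (by omega))]
    have h1 := Φ.lower ρ (show k + 2 < n by omega) (fun w hw hw0 => (h.thin (by omega) hw hw0).1) 0
      (fun hc => absurd rfl hc)
    rw [zero_smul, add_zero] at h1
    refine Submodule.one_le_finrank_iff.2 (h1 (Submodule.one_le_finrank_iff.1 ?_))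
    exact ih (by omega) (neg_mem (W_anti (Nat.le_succ k) he)) (neg_ne_zero.2 (hef _ (by omega)))
      (by rw [QuadraticMap.map_neg, Φ.qe _ (by omega)])

theorem Small.E_bottom (h : Φ.Small ρ) : Φ.E ρ (n - 1) = Φ.E ρ n := by
  have hn := h.hn
  refine le_antisymm (fun u hu => ?_) (Φ.E_anti ρ (Nat.sub_le n 1))
  have := Fintype.ofFinite (Φ.W (n - 1))
  have hk : n - 1 < n := by omega
  have hM : Φ.M ρ (n - 1) 0 = Φ.E ρ n := by rw [Φ.M_zero ρ hk, Nat.sub_add_cancel (by omega)]
  rw [← hM, ← Φ.sum_pM ρ hk u, Finset.sum_eq_single (0 : Φ.W (n - 1))]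
  · exact Φ.pM_mem ρ hk (0 : ι → F) hu
  · intro w _ hw
    have hw0 : w.1 ≠ 0 := fun hz => hw (Subtype.ext hz)
    have hQ : Q w.1 ≠ 0 := fun hq => hw0 (Φ.Cr_ne w.2 hq)
    have hmem := Φ.pM_mem ρ hk w.1 hu
    rw [(h.thin hk w.2 hw0).2 hQ] at hmem
    exact (Submodule.mem_bot ℂ).1 hmem
  · exact fun hh => absurd (Finset.mem_univ _) hh

theorem Small.finrank_E_step (h : Φ.Small ρ) {k : ℕ} (hk : k + 1 < n) :
    finrank ℂ (Φ.E ρ k) + 1 = finrank ℂ (Φ.E ρ (k + 1)) + singCount (Fintype.card F) (n - 1 - k) := by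
  classical
  have hk' : k < n := by omega
  have := Fintype.ofFinite (Φ.W k)
  rw [← card_sing (Φ := Φ) (k := k) (j := n - 1 - k) (by omega), ← Φ.sum_finrank_M ρ hk',
    ← Finset.add_sum_erase _ _ (Finset.mem_univ (0 : Φ.W k))]
  have h0 : ((0 : Φ.W k) : ι → F) = 0 := rfl
  rw [h0, Φ.M_zero ρ hk', add_assoc]
  congr 2
  rw [← Finset.sum_subset (s₁ := (Finset.univ.filter fun w : Φ.W k => Q w.1 = 0).erase 0)]
  · rw [Finset.card_eq_sum_ones]
    refine Finset.sum_congr rfl fun w hw => ?_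
    obtain ⟨hw0, hwQ⟩ : w ≠ 0 ∧ Q w.1 = 0 := by simpa using hw
    exact h.full hk w.2 (fun hz => hw0 (Subtype.ext hz)) hwQ
  · exact Finset.erase_subset_erase _ (Finset.subset_univ _)
  · intro w hw hw'
    have hw0 : w ≠ 0 := by simpa using hw
    have hQ : Q w.1 ≠ 0 := fun hq => hw' (by simp [hw0, hq])
    rw [(h.thin hk' w.2 fun hz => hw0 (Subtype.ext hz)).2 hQ, finrank_bot]

theorem Small.bound_of_fix (h : Φ.Small ρ) : finrank ℂ (Φ.E ρ n) + 1 < n := by
  have hn := h.hn
  have key : ∀ j, j < n → degSum (Fintype.card F) j + finrank ℂ (Φ.E ρ n) ≤ finrank ℂ (Φ.E ρ (n - 1 - j)) + j := by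
    intro j hj
    induction j with
    | zero => rw [Nat.sub_zero, h.E_bottom, degSum]; omega
    | succ j ih =>
      have h1 := h.finrank_E_step (k := n - 1 - (j + 1)) (by omega)
      rw [show n - 1 - (n - 1 - (j + 1)) = j + 1 by omega, show n - 1 - (j + 1) + 1 = n - 1 - j by omega] at h1
      have h2 := ih (by omega)
      rw [degSum]
      omega
  have h1 := key (n - 1) (by omega)
  rw [Nat.sub_self, E_zero, finrank_top] at h1
  have := h.dim_lt
  omega

end Frame

end Cfsg.Agent.OrthMinusMinDegree
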