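import Cfsg.Agent.Lib.OrthMinusMinDegree.Levels
import Cfsg.Agent.EqLemmas
/-
The anisotropic plane.
* Cr; Cr_ne, Cr_dual, Cr_orth, Cr_rep;  rot, rot_sub_surj
* long_comm, short_comm: root elements as commutators;  fix_comm: commutators of stabilisers fix lines
-/
set_option autoImplicit false
set_option linter.unusedSectionVars false

namespace Cfsg.Agent.OrthMinusMinDegree

open Cfsg Module
open Cfsg.Agent.Orth
open Cfsg.Agent.SUMinDegree (rep_injective)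
open QuadraticMap (polar)
open scoped commutatorElement

variable {ι : Type} [Fintype ι] [DecidableEq ι] {F : Type*} [Field F] [Fintype F]
variable {Q : QuadraticForm F (ι → F)} {n : ℕ} (Φ : Frame Q n)

namespace Frame

/-- The core. -/
def Cr : Submodule F (ι → F) := Φ.W (n - 1)

theorem Cr_W {z : ι → F} (hz : z ∈ Φ.Cr) {k : ℕ} (hk : k < n) : z ∈ Φ.W k := W_anti (by omega) hz

theorem Cr_e {z : ι → F} (hz : z ∈ Φ.Cr) {i : ℕ} (hi : i < n) : polar ⇑Q (Φ.e i) z = 0 := W_e hz (by omega)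

theorem Cr_f {z : ι → F} (hz : z ∈ Φ.Cr) {i : ℕ} (hi : i < n) : polar ⇑Q (Φ.f i) z = 0 := W_f hz (by omega)

theorem u1_mem : Φ.u1 ∈ Φ.Cr := fun i hi => by
  have hn := Φ.n_pos
  obtain ⟨h1, h2, -, -⟩ := Φ.peu i (by omega)
  exact ⟨h1, h2⟩

theorem u2_mem : Φ.u2 ∈ Φ.Cr := fun i hi => by
  have hn := Φ.n_pos
  obtain ⟨-, -, h1, h2⟩ := Φ.peu i (by omega)
  exact ⟨h1, h2⟩

theorem Cr_coords {z : ι → F} (hz : z ∈ Φ.Cr) : ∃ a b : F, z = a • Φ.u1 + b • Φ.u2 :=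
  Φ.hcore z fun i hi => hz i (by omega)

theorem Cr_ne {z : ι → F} (hz : z ∈ Φ.Cr) (h : Q z = 0) : z = 0 := by
  obtain ⟨a, b, rfl⟩ := Φ.Cr_coords hz
  obtain ⟨rfl, rfl⟩ := Φ.aniso a b h
  simp

theorem Cr_dual {z : ι → F} (hz : z ∈ Φ.Cr) (hz0 : z ≠ 0) : ∃ x ∈ Φ.Cr, polar ⇑Q x z = 1 := by
  have hn := Φ.n_pos
  obtain ⟨x, hx, hne⟩ : ∃ x ∈ Φ.Cr, polar ⇑Q z x ≠ 0 := by
    by_contra! hall
    exact hz0 (Φ.W_sep (show n - 1 < n by omega) hz hall)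
  exact ⟨(polar ⇑Q z x)⁻¹ • x, Submodule.smul_mem _ _ hx, by
    rw [pl_smul_left, pl_comm Q x z, inv_mul_cancel₀ hne]⟩

theorem Cr_orth (z : ι → F) : ∃ y ∈ Φ.Cr, y ≠ 0 ∧ polar ⇑Q z y = 0 := by
  have hu : Φ.u1 ≠ 0 := fun h => one_ne_zero (Φ.aniso 1 0 (by rw [h]; simp)).1
  rcases eq_or_ne (polar ⇑Q z Φ.u1) 0 with h | h
  · exact ⟨Φ.u1, Φ.u1_mem, hu, h⟩
  refine ⟨polar ⇑Q z Φ.u2 • Φ.u1 + (-polar ⇑Q z Φ.u1) • Φ.u2,
    add_mem (Submodule.smul_mem _ _ Φ.u1_mem) (Submodule.smul_mem _ _ Φ.u2_mem), fun h0 => ?_, ?_⟩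
  · exact neg_ne_zero.2 h (Φ.aniso _ _ (by rw [h0, QuadraticMap.map_zero])).2
  · rw [pl_add_right, pl_smul_right, pl_smul_right]; ring

/-- Every value is taken on the core. -/
theorem Cr_rep (c : F) : ∃ z ∈ Φ.Cr, Q z = c := by
  have hu : Q Φ.u1 ≠ 0 := fun h => one_ne_zero (Φ.aniso 1 0 (by simpa using h)).1
  rcases eq_or_ne (2 : F) 0 with h2 | h2
  · obtain ⟨t, ht⟩ := FiniteField.isSquare_of_char_two
      (CharP.ringChar_of_prime_eq_zero Nat.prime_two (by exact_mod_cast h2)) (c / Q Φ.u1)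
    exact ⟨t • Φ.u1, Submodule.smul_mem _ _ Φ.u1_mem, by rw [Q_smul, ← ht, div_mul_cancel₀ _ hu]⟩
  obtain ⟨y, hy, hy0, hzy⟩ := Φ.Cr_orth Φ.u1
  have hQy : Q y ≠ 0 := fun h => hy0 (Φ.Cr_ne hy h)
  obtain ⟨a, b, hab⟩ := FiniteField.exists_root_sum_quadratic
    (f := Polynomial.C (Q Φ.u1) * Polynomial.X ^ 2) (g := Polynomial.C (Q y) * Polynomial.X ^ 2 - Polynomial.C c)
    (Polynomial.degree_C_mul_X_pow 2 hu)
    ((Polynomial.degree_sub_eq_left_of_degree_lt (lt_of_le_of_lt Polynomial.degree_C_le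
      (show (0 : WithBot ℕ) < (Polynomial.C (Q y) * Polynomial.X ^ 2).degree by
        rw [Polynomial.degree_C_mul_X_pow 2 hQy]; norm_num))).trans (Polynomial.degree_C_mul_X_pow 2 hQy))
    (FiniteField.odd_card_of_char_ne_two fun h => h2 (by
      have := ringChar.Nat.cast_ringChar (R := F)
      rw [h] at this
      exact_mod_cast this))
  simp only [Polynomial.eval_mul, Polynomial.eval_C, Polynomial.eval_pow, Polynomial.eval_X,
    Polynomial.eval_sub] at hab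
  refine ⟨a • Φ.u1 + b • y, add_mem (Submodule.smul_mem _ _ Φ.u1_mem) (Submodule.smul_mem _ _ hy), ?_⟩
  rw [Q_add, Q_smul, Q_smul, pl_smul_left, pl_smul_right, hzy]
  linear_combination hab

/-! ### A rotation of the core -/

theorem exists_rot : ∃ h : OG Q, (∀ x : ι → F, (∀ z ∈ Φ.Cr, polar ⇑Q z x = 0) → act h x = x) ∧
    (∀ z ∈ Φ.Cr, act h z ∈ Φ.Cr) ∧ ∀ z ∈ Φ.Cr, ∃ x ∈ Φ.Cr, act h x - x = z := by
  classical
  have hn := Φ.n_pos
  obtain ⟨z1, hz1, hQ1⟩ := Φ.Cr_rep 1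
  have hz10 : z1 ≠ 0 := fun h => by rw [h, QuadraticMap.map_zero] at hQ1; exact zero_ne_one hQ1
  obtain ⟨x, hx, hxz⟩ := Φ.Cr_dual hz1 hz10
  -- `y` neither parallel nor orthogonal to `z1`
  obtain ⟨y, hy, hyz, hind⟩ : ∃ y ∈ Φ.Cr, polar ⇑Q y z1 = 1 ∧ ∀ t : F, y ≠ t • z1 := by
    by_cases hp : ∀ t : F, x ≠ t • z1
    · exact ⟨x, hx, hxz, hp⟩
    push Not at hp
    obtain ⟨t, ht⟩ := hp
    obtain ⟨w, hw, hw0, hwz⟩ := Φ.Cr_orth z1
    refine ⟨x + w, add_mem hx hw, by rw [pl_add_left, hxz, pl_comm, hwz, add_zero], fun t' ht' => ?_⟩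
    rw [ht] at ht'
    have hw' : w = (t' - t) • z1 := by rw [sub_smul, ← ht']; abel
    rw [hw', pl_smul_right, pl_self, hQ1, mul_one] at hwz
    rw [ht, pl_smul_left, pl_self, hQ1, mul_one] at hxz
    have h2 : (2 : F) ≠ 0 := fun h => by rw [h, mul_zero] at hxz; exact zero_ne_one hxz
    exact hw0 (by rw [hw', (mul_eq_zero.1 hwz).resolve_right h2, zero_smul])
  have hy0 : y ≠ 0 := fun h => hind 0 (by rw [h, zero_smul])
  have hQy : Q y ≠ 0 := fun h => hy0 (Φ.Cr_ne hy h)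
  obtain ⟨z2, hz2⟩ : ∃ z2, z2 = z1 - (Q y)⁻¹ • y := ⟨_, rfl⟩
  have hz2m : z2 ∈ Φ.Cr := hz2 ▸ sub_mem hz1 (Submodule.smul_mem _ _ hy)
  have hQ2 : Q z2 = 1 := by
    rw [hz2, sub_eq_add_neg, Q_add, QuadraticMap.map_neg, Q_smul, pl_neg_right, pl_smul_right, pl_comm Q z1 y, hyz, hQ1]
    field_simp
    ring
  have hp := Φ.hpair (show 0 < n by omega)
  obtain ⟨a1, a2, -, -⟩ := Φ.nEl_spec hp (Φ.Cr_e hz1 (by omega)) (Φ.Cr_f hz1 (by omega)) (hQ1 ▸ one_ne_zero)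
  obtain ⟨b1, b2, -, -⟩ := Φ.nEl_spec hp (Φ.Cr_e hz2m (by omega)) (Φ.Cr_f hz2m (by omega)) (hQ2 ▸ one_ne_zero)
  obtain ⟨h, hh⟩ : ∃ h, h = Φ.nEl (Φ.e 0) (Φ.f 0) z1 * Φ.nEl (Φ.e 0) (Φ.f 0) z2 := ⟨_, rfl⟩
  have hperp : ∀ x, polar ⇑Q (Φ.e 0) x = 0 → polar ⇑Q (Φ.f 0) x = 0 →
      act h x = x - polar ⇑Q z2 x • z2 - (polar ⇑Q z1 x - polar ⇑Q z2 x * polar ⇑Q z1 z2) • z1 := by
    intro x h1 h2
    rw [hh, act_mul, Φ.nEl_perp hp (Φ.Cr_e hz2m (by omega)) (Φ.Cr_f hz2m (by omega)) (hQ2 ▸ one_ne_zero) h1 h2,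
      map_sub, map_smul, Φ.nEl_perp hp (Φ.Cr_e hz1 (by omega)) (Φ.Cr_f hz1 (by omega)) (hQ1 ▸ one_ne_zero) h1 h2,
      Φ.nEl_perp hp (Φ.Cr_e hz1 (by omega)) (Φ.Cr_f hz1 (by omega)) (hQ1 ▸ one_ne_zero) (Φ.Cr_e hz2m (by omega))
        (Φ.Cr_f hz2m (by omega)), hQ1, hQ2]
    match_scalars <;> ring
  have hmap : ∀ z ∈ Φ.Cr, act h z ∈ Φ.Cr := fun z hz => by
    rw [hperp z (Φ.Cr_e hz (by omega)) (Φ.Cr_f hz (by omega))]
    exact sub_mem (sub_mem hz (Submodule.smul_mem _ _ hz2m)) (Submodule.smul_mem _ _ hz1)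
  refine ⟨h, fun x hx => ?_, hmap, fun z hz => ?_⟩
  · -- split off the first pair
    have he : act h (Φ.e 0) = Φ.e 0 := by
      rw [hh, act_mul, b1, map_smul, a2, smul_smul, hQ1, hQ2]; simp
    have hf : act h (Φ.f 0) = Φ.f 0 := by
      rw [hh, act_mul, b2, map_smul, a1, smul_smul, hQ1, hQ2]; simp
    have hW := Φ.projW_mem (show 0 < n by omega) x
    have hd := Φ.decomp 0 x
    rw [Finset.sum_range_one] at hd
    have hproj : ∀ z ∈ Φ.Cr, polar ⇑Q z (Φ.projW 0 x) = 0 := fun z hz => by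
      have h1 := hx z hz
      rw [hd, pl_add_right, pl_add_right, pl_smul_right, pl_smul_right, pl_comm Q z (Φ.e 0),
        pl_comm Q z (Φ.f 0), Φ.Cr_e hz (by omega), Φ.Cr_f hz (by omega), mul_zero, mul_zero, zero_add, zero_add] at h1
      exact h1
    rw [hd, map_add, map_add, map_smul, map_smul, he, hf, hperp _ (W_e hW le_rfl) (W_f hW le_rfl),
      hproj z1 hz1, hproj z2 hz2m]
    simp
  · let f : Φ.Cr → Φ.Cr := fun z => ⟨act h z.1 - z.1, sub_mem (hmap _ z.2) z.2⟩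
    have hf : Function.Injective f := fun a b hab => by
      have h1 : act h a.1 - a.1 = act h b.1 - b.1 := congrArg Subtype.val hab
      obtain ⟨d, hd⟩ : ∃ d, d = a.1 - b.1 := ⟨_, rfl⟩
      have hdC : d ∈ Φ.Cr := hd ▸ sub_mem a.2 b.2
      have h2 : act h d = d := by
        rw [hd, map_sub, sub_eq_sub_iff_sub_eq_sub.1 h1]
      rw [hperp d (Φ.Cr_e hdC (by omega)) (Φ.Cr_f hdC (by omega))] at h2
      have h3 : polar ⇑Q z2 d • z2 + (polar ⇑Q z1 d - polar ⇑Q z2 d * polar ⇑Q z1 z2) • z1 = 0 := by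
        linear_combination (norm := module) -h2
      have hB : polar ⇑Q z2 d = 0 := by
        by_contra hne
        obtain ⟨s, hs⟩ : ∃ s, s = polar ⇑Q z1 d - polar ⇑Q z2 d * polar ⇑Q z1 z2 := ⟨_, rfl⟩
        rw [← hs, hz2] at h3
        refine hind (((polar ⇑Q z2 d + s) / polar ⇑Q z2 d) * Q y) ?_
        rw [hz2] at hne ⊢
        generalize polar ⇑Q (z1 - (Q y)⁻¹ • y) d = p at hne h3 ⊢
        linear_combination (norm := (match_scalars <;> field_simp <;> ring)) (-(Q y / p)) • h3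
      have hA : polar ⇑Q z1 d = 0 := by
        rw [hB, zero_smul, zero_add, zero_mul, sub_zero] at h3
        exact (smul_eq_zero.1 h3).resolve_right hz10
      -- `d` is orthogonal to `z1` and `y`, hence to the core
      have hyd : polar ⇑Q y d = 0 := by
        rw [hz2, pl_sub_left, pl_smul_left, hA, zero_sub, neg_eq_zero] at hB
        exact (mul_eq_zero.1 hB).resolve_left (inv_ne_zero hQy)
      obtain ⟨p1, p2, hp1⟩ := Φ.Cr_coords hz1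
      obtain ⟨r1, r2, hr1⟩ := Φ.Cr_coords hy
      have hdet : p1 * r2 - p2 * r1 ≠ 0 := fun h0 => by
        rcases eq_or_ne p1 0 with hp10 | hp10
        · have hp20 : p2 ≠ 0 := fun h' => hz10 (by rw [hp1, hp10, h']; simp)
          have hr10 : r1 = 0 := by rw [hp10] at h0; simpa [hp20] using h0
          refine hind (r2 / p2) ?_
          rw [hr1, hp1, hp10, hr10, smul_add, smul_smul, smul_smul, mul_zero, div_mul_cancel₀ _ hp20]
        · refine hind (r1 / p1) ?_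
          rw [hr1, hp1, smul_add, smul_smul, smul_smul, div_mul_cancel₀ _ hp10]
          congr 2
          field_simp
          linear_combination h0
      rw [hp1, pl_add_left, pl_smul_left, pl_smul_left] at hA
      rw [hr1, pl_add_left, pl_smul_left, pl_smul_left] at hyd
      have e1 : polar ⇑Q Φ.u1 d = 0 := (mul_eq_zero.1
        (show (p1 * r2 - p2 * r1) * polar ⇑Q Φ.u1 d = 0 by linear_combination r2 * hA - p2 * hyd)).resolve_left hdet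
      have e2 : polar ⇑Q Φ.u2 d = 0 := (mul_eq_zero.1
        (show (p1 * r2 - p2 * r1) * polar ⇑Q Φ.u2 d = 0 by linear_combination p1 * hyd - r1 * hA)).resolve_left hdet
      refine Subtype.ext (sub_eq_zero.1 ?_)
      rw [← hd]
      refine Φ.W_sep (show n - 1 < n by omega) hdC fun w hw => ?_
      obtain ⟨a', b', rfl⟩ := Φ.Cr_coords hw
      rw [pl_comm, pl_add_left, pl_smul_left, pl_smul_left, e1, e2, mul_zero, mul_zero, add_zero]
    obtain ⟨w, hw⟩ := (Finite.injective_iff_surjective.1 hf) ⟨z, hz⟩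
    exact ⟨w.1, w.2, congrArg Subtype.val hw⟩

/-! ### Commutators -/

/-- A long root element is a commutator of short ones. -/
theorem long_comm {u v x y : ι → F} (hu : Q u = 0) (hv : Q v = 0) (huv : polar ⇑Q u v = 0)
    (hux : polar ⇑Q u x = 0) (huy : polar ⇑Q u y = 0) (hvx : polar ⇑Q v x = 0) (hvy : polar ⇑Q v y = 0) :
    ⁅Φ.em u x, Φ.em v y⁆ = Φ.em u (polar ⇑Q x y • v) := by
  have e1 : act (Φ.em u x) v = v := Φ.act_em_fix hu hux huv (by rw [pl_comm]; exact hvx)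
  have e2 : act (Φ.em u x) y = y + (-polar ⇑Q x y) • u := by
    rw [Φ.act_em hu hux, huy]; module
  have hvu : polar ⇑Q v u = 0 := by rw [pl_comm]; exact huv
  have hcu : polar ⇑Q v ((-polar ⇑Q x y) • u) = 0 := by rw [pl_smul_right, hvu, mul_zero]
  have h1 : Φ.em v ((-polar ⇑Q x y) • u) = Φ.em u (polar ⇑Q x y • v) := by
    rw [Φ.em_comm hv (by rw [Q_smul, hu, mul_zero]) hcu, Φ.em_smul_left]
    congr 1
    module
  rw [commutatorElement_def, Φ.mul_em, e1, e2, mul_inv_cancel_right, add_comm, Φ.em_add hv hcu hvy,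
    mul_inv_cancel_right, h1]

/-- A short root element is a commutator with the rotation. -/
theorem short_comm {z : ι → F} (hz : z ∈ Φ.Cr) : ∃ h : OG Q, (∀ x : ι → F, (∀ z ∈ Φ.Cr, polar ⇑Q z x = 0) → act h x = x) ∧
    ∃ x ∈ Φ.Cr, ∀ u : ι → F, Q u = 0 → (∀ z ∈ Φ.Cr, polar ⇑Q u z = 0) → Φ.em u z = ⁅h, Φ.em u x⁆ := by
  obtain ⟨h, h1, hC, h2⟩ := Φ.exists_rot
  obtain ⟨x, hx, hxz⟩ := h2 z hz
  refine ⟨h, h1, x, hx, fun u hu hperp => ?_⟩
  have hhu : act h u = u := h1 u fun w hw => by rw [pl_comm]; exact hperp w hw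
  rw [commutatorElement_def, Φ.mul_em, hhu, mul_inv_cancel_right, ← hxz, sub_eq_add_neg,
    Φ.em_add hu (hperp _ (hC x hx)) (by rw [pl_neg_right, hperp x hx, neg_zero])]
  congr 1
  refine (inv_eq_of_mul_eq_one_right ?_).symm
  rw [← Φ.em_add hu (hperp x hx) (by rw [pl_neg_right, hperp x hx, neg_zero]), add_neg_cancel, Φ.em_zero]

variable {V : Type} [AddCommGroup V] [Module ℂ V] [FiniteDimensional ℂ V] (ρ : Representation ℂ (OG Q) V)

/-- `g` fixes the flag up to `k` and `v`. -/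
def Stab (k : ℕ) (v : ι → F) (g : OG Q) : Prop := (∀ i ≤ k, act g (Φ.e i) = Φ.e i) ∧ act g v = v

theorem stab_em {k : ℕ} {v u w : ι → F} (hu : Q u = 0) (huw : polar ⇑Q u w = 0)
    (hue : ∀ i ≤ k, polar ⇑Q u (Φ.e i) = 0) (hwe : ∀ i ≤ k, polar ⇑Q w (Φ.e i) = 0)
    (huv : polar ⇑Q u v = 0) (hwv : polar ⇑Q w v = 0) : Φ.Stab k v (Φ.em u w) :=
  ⟨fun i hi => Φ.act_em_fix hu huw (hue i hi) (hwe i hi), Φ.act_em_fix hu huw huv hwv⟩

theorem stab_scal {k : ℕ} (hk : k < n) {v : ι → F} (hv : ∀ i ≤ k, polar ⇑Q v (Φ.e i) = 0)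
    (h1 : finrank ℂ (Φ.M ρ k v) ≤ 1) {u : V} (hu : u ∈ Φ.M ρ k v) {g : OG Q} (hg : Φ.Stab k v g) :
    ∃ c : ℂ, ρ g u = c • u := by
  rcases eq_or_ne u 0 with rfl | hu0
  · exact ⟨0, by rw [map_zero, smul_zero]⟩
  have hmem : ρ g u ∈ Φ.M ρ k v :=
    Φ.mapsTo_M ρ hk (fun j hj => ⟨1, one_ne_zero, by rw [hg.1 j hj.le, one_smul]⟩) one_ne_zero
      (by rw [hg.1 k le_rfl, one_smul]) hv (fun x _ => by rw [hg.2, inv_one, one_mul]) hu
  have hne : Φ.M ρ k v ≠ ⊥ := fun hb => hu0 ((Submodule.mem_bot ℂ).1 (hb ▸ hu))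
  obtain ⟨c, hc⟩ := exists_smul_eq_of_finrank_eq_one (le_antisymm h1 (Submodule.one_le_finrank_iff.2 hne))
    (x := ⟨u, hu⟩) (fun hz => hu0 (congrArg Subtype.val hz)) ⟨_, hmem⟩
  exact ⟨c, (congrArg Subtype.val hc).symm⟩

theorem fix_comm {k : ℕ} (hk : k < n) {v : ι → F} (hv : ∀ i ≤ k, polar ⇑Q v (Φ.e i) = 0)
    (h1 : finrank ℂ (Φ.M ρ k v) ≤ 1) {u : V} (hu : u ∈ Φ.M ρ k v) {g g' : OG Q}
    (hg : Φ.Stab k v g) (hg' : Φ.Stab k v g') : ρ ⁅g, g'⁆ u = u := by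
  obtain ⟨c, hc⟩ := Φ.stab_scal ρ hk hv h1 hu hg
  obtain ⟨d, hd⟩ := Φ.stab_scal ρ hk hv h1 hu hg'
  have e1 : ρ (g * g') u = ρ (g' * g) u := by
    rw [map_mul, map_mul, Module.End.mul_apply, Module.End.mul_apply, hc, hd, map_smul, map_smul, hc, hd,
      smul_comm]
  refine rep_injective ρ (g' * g) ?_
  rw [← e1]
  have e2 : ρ (g' * g) (ρ ⁅g, g'⁆ u) = ρ (g' * g) (ρ (g * g') (ρ (g' * g)⁻¹ u)) := by
    rw [← Module.End.mul_apply (ρ (g * g')), ← map_mul, commutatorElement_def]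
    congr 2
    group
  have e3 : ρ (g * g') (ρ (g' * g)⁻¹ u) = u := by
    have h5 : ρ (g' * g)⁻¹ (ρ (g' * g) u) = u := by
      rw [← Module.End.mul_apply, ← map_mul, inv_mul_cancel, map_one, Module.End.one_apply]
    rcases eq_or_ne u 0 with rfl | hu0
    · simp only [map_zero]
    have hcd : ρ (g' * g) u = (c * d) • u := by
      rw [map_mul, Module.End.mul_apply, hc, map_smul, hd, smul_smul]
    have hcd0 : c * d ≠ 0 := fun hz => hu0 (rep_injective ρ (g' * g) (by rw [hcd, hz, zero_smul, map_zero]))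
    rw [hcd, map_smul] at h5
    have h6 : ρ (g' * g)⁻¹ u = (c * d)⁻¹ • u := by
      rw [← smul_right_inj hcd0, h5, smul_smul, mul_inv_cancel₀ hcd0, one_smul]
    rw [h6, map_smul, e1, hcd, smul_smul, inv_mul_cancel₀ hcd0, one_smul]
  rw [e2, e3, e1]

/-- `em p q` fixes the line for root vectors `p, q` orthogonal to the flag, to `v` and to the core. -/
theorem long_fix {k : ℕ} (hk : k < n) {v : ι → F} (hv : ∀ i ≤ k, polar ⇑Q v (Φ.e i) = 0)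
    (hvC : ∀ z ∈ Φ.Cr, polar ⇑Q z v = 0) (h1 : finrank ℂ (Φ.M ρ k v) ≤ 1) {u : V} (hu : u ∈ Φ.M ρ k v)
    {p q : ι → F} (hp : Q p = 0) (hq : Q q = 0) (hpq : polar ⇑Q p q = 0)
    (hpC : ∀ z ∈ Φ.Cr, polar ⇑Q p z = 0) (hqC : ∀ z ∈ Φ.Cr, polar ⇑Q q z = 0)
    (hpe : ∀ i ≤ k, polar ⇑Q p (Φ.e i) = 0) (hqe : ∀ i ≤ k, polar ⇑Q q (Φ.e i) = 0)
    (hpv : polar ⇑Q p v = 0) (hqv : polar ⇑Q q v = 0) (a : F) : ρ (Φ.em p (a • q)) u = u := by
  obtain ⟨z, hz, hQz⟩ := Φ.Cr_rep 1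
  have hz0 : z ≠ 0 := fun h => by rw [h, QuadraticMap.map_zero] at hQz; exact zero_ne_one hQz
  obtain ⟨x, hx, hxz⟩ := Φ.Cr_dual hz hz0
  have hax : a • x ∈ Φ.Cr := Submodule.smul_mem _ _ hx
  have hCe : ∀ w ∈ Φ.Cr, ∀ i ≤ k, polar ⇑Q w (Φ.e i) = 0 := fun w hw i hi => by
    rw [pl_comm]; exact Φ.Cr_e hw (by omega)
  have h2 := Φ.long_comm hp hq hpq (hpC _ hax) (hpC _ hz) (hqC _ hax) (hqC _ hz)
  rw [pl_smul_left, hxz, mul_one] at h2
  rw [← h2]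
  exact Φ.fix_comm ρ hk hv h1 hu (Φ.stab_em hp (hpC _ hax) hpe (hCe _ hax) hpv (hvC _ hax))
    (Φ.stab_em hq (hqC _ hz) hqe (hCe _ hz) hqv (hvC _ hz))

/-- `em p z`, `z` in the core, fixes the line. -/
theorem short_fix {k : ℕ} (hk : k < n) {v : ι → F} (hv : ∀ i ≤ k, polar ⇑Q v (Φ.e i) = 0)
    (hvC : ∀ z ∈ Φ.Cr, polar ⇑Q z v = 0) (h1 : finrank ℂ (Φ.M ρ k v) ≤ 1) {u : V} (hu : u ∈ Φ.M ρ k v)
    {p : ι → F} (hp : Q p = 0) (hpC : ∀ z ∈ Φ.Cr, polar ⇑Q p z = 0) (hpe : ∀ i ≤ k, polar ⇑Q p (Φ.e i) = 0)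
    (hpv : polar ⇑Q p v = 0) {z : ι → F} (hz : z ∈ Φ.Cr) : ρ (Φ.em p z) u = u := by
  obtain ⟨h, h3, x, hx, h4⟩ := Φ.short_comm hz
  rw [h4 p hp hpC]
  exact Φ.fix_comm ρ hk hv h1 hu ⟨fun i hi => h3 _ fun w hw => by rw [pl_comm]; exact Φ.Cr_e hw (by omega), h3 v hvC⟩
    (Φ.stab_em hp (hpC _ hx) hpe (fun i hi => by rw [pl_comm]; exact Φ.Cr_e hx (by omega)) hpv (hvC _ hx))

end Frame

end Cfsg.Agent.OrthMinusMinDegree
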