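import Cfsg.Agent.Lib.OrthMinusMinDegree.Hecke
import Cfsg.Agent.EqLemmas
/-
The swaps as projections of rank one; a vector killed by all of them is invariant.
* pr i: the rank one projections; edge; opp_fixed; fixed_of_pr_zero
-/
set_option autoImplicit false
set_option linter.unusedSectionVars false

namespace Cfsg.Agent.OrthMinusMinDegree

open Cfsg Module
open Cfsg.Agent.Orth
open Cfsg.Agent.SUMinDegree (rep_injective)
open Cfsg.Agent.OrthMinDegree (Ip Ip_sub_left Ip_sub_right Ip_smul_left Ip_conj Ip_self_eq_zero)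
open QuadraticMap (polar)
open scoped ComplexConjugate

variable {ι : Type} [Fintype ι] [DecidableEq ι] {F : Type*} [Field F] [Fintype F]
variable {Q : QuadraticForm F (ι → F)} {n : ℕ} (Φ : Frame Q n)
variable {V : Type} [AddCommGroup V] [Module ℂ V] [FiniteDimensional ℂ V] (ρ : Representation ℂ (OG Q) V)

namespace Frame

/-- The projection to the part negated by the swap. -/
noncomputable def pr (i : ℕ) : V →ₗ[ℂ] V :=
  ((Fintype.card F : ℂ) + 1)⁻¹ • ((Fintype.card F : ℂ) • LinearMap.id - Φ.swapVec ρ i)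

theorem pr_apply (i : ℕ) (v : V) :
    Φ.pr ρ i v = ((Fintype.card F : ℂ) + 1)⁻¹ • ((Fintype.card F : ℂ) • v - Φ.swapVec ρ i v) := rfl

theorem q_add_one_ne : ((Fintype.card F : ℂ) + 1) ≠ 0 := Nat.cast_add_one_ne_zero _

theorem sw_eq (i : ℕ) (v : V) :
    Φ.swapVec ρ i v = (Fintype.card F : ℂ) • v - ((Fintype.card F : ℂ) + 1) • Φ.pr ρ i v := by
  rw [pr_apply, smul_smul, mul_inv_cancel₀ q_add_one_ne, one_smul, sub_sub_cancel]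

theorem pr_mem {i : ℕ} (hi : i + 1 < n) {v : V} (hv : v ∈ Φ.E0 ρ) : Φ.pr ρ i v ∈ Φ.E0 ρ := by
  rw [pr_apply]
  exact Submodule.smul_mem _ _ (sub_mem (Submodule.smul_mem _ _ hv) (Φ.sw_mem_E0 ρ hi hv))

variable {Φ ρ}

theorem Small.pr_idem (h : Φ.Small ρ) {i : ℕ} (hi : i + 1 < n) {v : V} (hv : v ∈ Φ.E0 ρ) :
    Φ.pr ρ i (Φ.pr ρ i v) = Φ.pr ρ i v := by
  obtain ⟨q, hq⟩ : ∃ q : ℂ, q = (Fintype.card F : ℂ) := ⟨_, rfl⟩
  have h1 : q + 1 ≠ 0 := hq ▸ q_add_one_ne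
  simp only [pr_apply, map_smul, map_sub, h.sw_sq hi hv, ← hq]
  match_scalars <;> field_simp <;> ring

theorem Small.pr_adj [Fintype (OG Q)] (h : Φ.Small ρ) {i : ℕ} (hi : i + 1 < n) {u w : V} (hu : u ∈ Φ.E0 ρ)
    (hw : w ∈ Φ.E0 ρ) : Ip ρ (Φ.pr ρ i u) w = Ip ρ u (Φ.pr ρ i w) := by
  have key : ∀ a b : V, Ip ρ (Φ.pr ρ i a) b =
      ((Fintype.card F : ℂ) + 1)⁻¹ * ((Fintype.card F : ℂ) * Ip ρ a b - Ip ρ (Φ.swapVec ρ i a) b) := fun a b => by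
    rw [pr_apply, Ip_smul_left, Ip_sub_left, Ip_smul_left]
  rw [← Ip_conj ρ (Φ.pr ρ i w) u, key, key, map_mul, map_sub, map_mul, map_inv₀, map_add, map_one, map_natCast,
    Ip_conj, Ip_conj, h.sw_adj hi hu hw]

theorem Small.pr_of_Rc (h : Φ.Small ρ) {i : ℕ} (hi : i + 1 < n) {v : V} (hv : v ∈ Φ.E0 ρ)
    (h0 : Φ.Rc ρ i 1 v = 0) : Φ.pr ρ i v = 0 := by
  rw [pr_apply, swapVec_apply, Finset.sum_congr rfl fun a _ => show
      ρ (Φ.rEl i a) (ρ (Φ.sEl i (i + 1) 1) v) = v by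
    rw [h.ker_Rc hi hv h0 one_ne_zero, Φ.rEl_fixed ρ hi ((Φ.mem_E0 ρ).1 hv).1],
    Finset.sum_const, Finset.card_univ, Nat.cast_smul_eq_nsmul, sub_self, smul_zero]

theorem sEl_fixed_of_pr (h : Φ.Small ρ) {i : ℕ} (hi : i + 1 < n) {v : V} (hv : v ∈ Φ.E0 ρ)
    (h0 : Φ.pr ρ i v = 0) {c : F} (hc : c ≠ 0) : ρ (Φ.sEl i (i + 1) c) v = v := by
  classical
  refine h.ker_Rc hi hv ?_ hc
  have hvE := ((Φ.mem_E0 ρ).1 hv).1
  have hsw := Φ.sw_eq ρ i v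
  rw [h0, smul_zero, sub_zero] at hsw
  -- `s v` agrees with `v`
  have := Fintype.ofFinite (OG Q)
  have key : ρ (Φ.sEl i (i + 1) 1) v = v := by
    refine Cfsg.Agent.OrthMinDegree.fixed_of_Ip ρ ?_
    have h1 : Ip ρ (Φ.swapVec ρ i v) v = (Fintype.card F : ℂ) * Ip ρ (ρ (Φ.sEl i (i + 1) 1) v) v := by
      rw [swapVec_apply, Cfsg.Agent.OrthMinDegree.Ip_sum_left, Finset.sum_congr rfl fun t _ => show
          Ip ρ (ρ (Φ.rEl i t) (ρ (Φ.sEl i (i + 1) 1) v)) v = Ip ρ (ρ (Φ.sEl i (i + 1) 1) v) v by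
        conv_lhs => rw [← Φ.rEl_fixed ρ hi hvE t]
        rw [Cfsg.Agent.OrthMinDegree.Ip_rep, Φ.rEl_fixed ρ hi hvE t],
        Finset.sum_const, Finset.card_univ, nsmul_eq_mul]
    rw [hsw, Ip_smul_left] at h1
    exact (mul_left_cancel₀ (Nat.cast_ne_zero.2 Fintype.card_ne_zero) h1).symm
  rw [Rc_apply, Finset.sum_congr rfl fun t _ => by rw [key, Φ.rEl_fixed ρ hi hvE t], ← Finset.sum_smul,
    Finset.sum_congr rfl fun t _ => show psi F (-(1 * t)) = psi F (t * -1) by rw [one_mul, mul_neg, mul_one],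
    sum_psi_mul, if_neg (neg_ne_zero.2 one_ne_zero), zero_smul]

/-- The projection has rank at most one. -/
theorem Small.pr_rank (h : Φ.Small ρ) {i : ℕ} (hi : i + 1 < n) {u w : V} (hu : u ∈ Φ.E0 ρ) (hw : w ∈ Φ.E0 ρ)
    (hne : Φ.pr ρ i u ≠ 0) : ∃ t : ℂ, Φ.pr ρ i w = t • Φ.pr ρ i u := by
  have hi' : i < n := by omega
  have hm : ∀ v ∈ Φ.E0 ρ, Φ.Rc ρ i 1 (Φ.pr ρ i v) ∈ Φ.M ρ i ((1 : F) • Φ.e (i + 1)) := fun v hv =>
    Φ.Rc_mem_M ρ hi ((Φ.mem_E0 ρ).1 (Φ.pr_mem ρ hi hv)).1 1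
  have hRne : Φ.Rc ρ i 1 (Φ.pr ρ i u) ≠ 0 := fun h0 => hne (by
    rw [← h.pr_idem hi hu, h.pr_of_Rc hi (Φ.pr_mem ρ hi hu) h0])
  have h1 : finrank ℂ (Φ.M ρ i ((1 : F) • Φ.e (i + 1))) = 1 :=
    le_antisymm (h.thin hi' (Submodule.smul_mem _ _ (e_mem_W hi (Nat.lt_succ_self i)))
      (smul_ne_zero one_ne_zero (Φ.hpair hi).ne_zero)).1
      (Submodule.one_le_finrank_iff.2 fun hb => hRne ((Submodule.mem_bot ℂ).1 (hb ▸ hm u hu)))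
  obtain ⟨t, ht⟩ := exists_smul_eq_of_finrank_eq_one h1 (x := ⟨_, hm u hu⟩)
    (fun hz => hRne (congrArg Subtype.val hz)) ⟨_, hm w hw⟩
  refine ⟨t, sub_eq_zero.1 ?_⟩
  have h2 := h.pr_of_Rc hi (sub_mem (Φ.pr_mem ρ hi hw) (Submodule.smul_mem _ t (Φ.pr_mem ρ hi hu)))
    (by rw [map_sub, map_smul, sub_eq_zero]; exact (congrArg Subtype.val ht).symm)
  rwa [map_sub, map_smul, h.pr_idem hi hw, h.pr_idem hi hu] at h2

theorem Small.pr_orth_left (h : Φ.Small ρ) {i m : ℕ} (hi : i + 1 < n) {Ψ : Frame Q n} (hm : m + 1 < n)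
    (hE : Ψ.E0 ρ = Φ.E0 ρ)
    (hR : ∀ v ∈ Φ.E ρ n, Φ.Rc ρ i 1 (Ψ.swapVec ρ m v) = (Fintype.card F : ℂ) • Φ.Rc ρ i 1 v) {v : V}
    (hv : v ∈ Φ.E0 ρ) : Φ.pr ρ i (Ψ.pr ρ m v) = 0 :=
  h.pr_of_Rc hi (hE ▸ Ψ.pr_mem ρ hm (hE.symm ▸ hv)) (by
    rw [pr_apply, map_smul, map_sub, map_smul, hR v ((Φ.mem_E0 ρ).1 hv).1, sub_self, smul_zero])

theorem Small.orth_symm [Fintype (OG Q)] (h : Φ.Small ρ) {i m : ℕ} (hi : i + 1 < n) {Ψ : Frame Q n}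
    (hΨ : Ψ.Small ρ) (hm : m + 1 < n) (hE : Ψ.E0 ρ = Φ.E0 ρ)
    (h0 : ∀ v ∈ Φ.E0 ρ, Φ.pr ρ i (Ψ.pr ρ m v) = 0) {v : V} (hv : v ∈ Φ.E0 ρ) : Ψ.pr ρ m (Φ.pr ρ i v) = 0 := by
  have hmem := Φ.pr_mem ρ hi hv
  have hw : Ψ.pr ρ m (Φ.pr ρ i v) ∈ Φ.E0 ρ := hE ▸ Ψ.pr_mem ρ hm (hE.symm ▸ hmem)
  refine Ip_self_eq_zero ρ ?_
  rw [hΨ.pr_adj hm (hE.symm ▸ hmem) (hE.symm ▸ hw), hΨ.pr_idem hm (hE.symm ▸ hmem),
    h.pr_adj hi hv hw, h0 _ hmem, ← Ip_conj ρ 0 v, Cfsg.Agent.OrthMinDegree.Ip_zero_left, map_zero]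

/-- Neighbouring nodes. -/
theorem braid_scalar {i : ℕ} (hi : i + 2 < n) {x y : V} (hxy : ∀ r t : ℂ, r • x + t • y = 0 → r = 0 ∧ t = 0)
    {a b : ℂ} (hxx : Φ.pr ρ i x = x) (hyy : Φ.pr ρ (i + 1) y = y) (hyx : Φ.pr ρ i y = b • x)
    (hxy' : Φ.pr ρ (i + 1) x = a • y) : a * b * ((Fintype.card F : ℂ) + 1) ^ 2 = (Fintype.card F : ℂ) := by
  have hb := sw_braid (Φ := Φ) (ρ := ρ) hi x
  simp only [sw_eq, map_sub, map_smul, hxx, hyy, hyx, hxy', smul_sub, smul_smul] at hb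
  obtain ⟨q, hq⟩ : ∃ q : ℂ, q = (Fintype.card F : ℂ) := ⟨_, rfl⟩
  have hq0 : q ≠ 0 := hq ▸ Nat.cast_ne_zero.2 Fintype.card_ne_zero
  have hq1 : q + 1 ≠ 0 := hq ▸ q_add_one_ne
  rw [← hq] at hb ⊢
  obtain ⟨h1, h2⟩ := hxy ((q - (q + 1) ^ 2 * a * b) - q * (-q + (q + 1) ^ 2 * a * b))
    ((q + 1) * a * q - (q + 1) * a * (q - (q + 1) ^ 2 * a * b + q)) (by
      rw [← sub_eq_zero] at hb
      rw [← hb]
      module)
  rcases eq_or_ne a 0 with rfl | ha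
  · exfalso
    rcases mul_eq_zero.1 (show q * (q + 1) = 0 by linear_combination h1) with h | h
    · exact hq0 h
    · exact hq1 h
  · have h3 : (q + 1) * a * ((q + 1) ^ 2 * a * b - q) = 0 := by linear_combination h2
    have h4 := (mul_eq_zero.1 h3).resolve_left (mul_ne_zero hq1 ha)
    linear_combination h4

theorem Small.pr_zero_right (h : Φ.Small ρ) {i : ℕ} (hi : i + 2 < n) (h0 : ∀ v ∈ Φ.E0 ρ, Φ.pr ρ i v = 0) {v : V}
    (hv : v ∈ Φ.E0 ρ) : Φ.pr ρ (i + 1) v = 0 := by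
  have hi1 : i + 1 + 1 < n := by omega
  obtain ⟨x, hx⟩ : ∃ x, x = Φ.pr ρ (i + 1) v := ⟨_, rfl⟩
  rw [← hx]
  have hxE : x ∈ Φ.E0 ρ := hx ▸ Φ.pr_mem ρ hi1 hv
  have hxx : Φ.pr ρ (i + 1) x = x := by rw [hx, h.pr_idem hi1 hv]
  have hb := sw_braid (Φ := Φ) (ρ := ρ) hi x
  simp only [sw_eq, map_sub, map_smul, h0 x hxE, hxx, smul_zero, sub_zero, smul_sub, smul_smul] at hb
  obtain ⟨q, hq⟩ : ∃ q : ℂ, q = (Fintype.card F : ℂ) := ⟨_, rfl⟩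
  have hq0 : q ≠ 0 := hq ▸ Nat.cast_ne_zero.2 Fintype.card_ne_zero
  have hq1 : q + 1 ≠ 0 := hq ▸ q_add_one_ne
  rw [← hq] at hb
  have h2 : (q * (q + 1)) • x = 0 := by
    rw [← sub_eq_zero] at hb
    rw [← neg_eq_zero, ← hb]
    module
  exact (smul_eq_zero.1 h2).resolve_left (mul_ne_zero hq0 hq1)

theorem Small.pr_zero_left (h : Φ.Small ρ) {i : ℕ} (hi : i + 2 < n) (h0 : ∀ v ∈ Φ.E0 ρ, Φ.pr ρ (i + 1) v = 0)
    {v : V} (hv : v ∈ Φ.E0 ρ) : Φ.pr ρ i v = 0 := by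
  have hi1 : i + 1 < n := by omega
  obtain ⟨x, hx⟩ : ∃ x, x = Φ.pr ρ i v := ⟨_, rfl⟩
  rw [← hx]
  have hxE : x ∈ Φ.E0 ρ := hx ▸ Φ.pr_mem ρ hi1 hv
  have hxx : Φ.pr ρ i x = x := by rw [hx, h.pr_idem hi1 hv]
  have hb := sw_braid (Φ := Φ) (ρ := ρ) hi x
  simp only [sw_eq, map_sub, map_smul, h0 x hxE, hxx, smul_zero, sub_zero, smul_sub, smul_smul] at hb
  obtain ⟨q, hq⟩ : ∃ q : ℂ, q = (Fintype.card F : ℂ) := ⟨_, rfl⟩
  have hq0 : q ≠ 0 := hq ▸ Nat.cast_ne_zero.2 Fintype.card_ne_zero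
  have hq1 : q + 1 ≠ 0 := hq ▸ q_add_one_ne
  rw [← hq] at hb
  have h2 : (q * (q + 1)) • x = 0 := by
    rw [← sub_eq_zero] at hb
    rw [← hb]
    module
  exact (smul_eq_zero.1 h2).resolve_left (mul_ne_zero hq0 hq1)

/-- `a b = q/(q+1)^2` for the scalars of neighbouring nodes spanning independent lines. -/
theorem Small.edge [Fintype (OG Q)] (h : Φ.Small ρ) {i : ℕ} (hi : i + 2 < n) {x y : V} (hx0 : x ≠ 0) (hy0 : y ≠ 0)
    (hxx : Φ.pr ρ i x = x) (hyy : Φ.pr ρ (i + 1) y = y)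
    (hdep : ∀ t : ℂ, y = t • x → False) {a b : ℂ} (hyx : Φ.pr ρ i y = b • x) (hxy' : Φ.pr ρ (i + 1) x = a • y) :
    a * b * ((Fintype.card F : ℂ) + 1) ^ 2 = (Fintype.card F : ℂ) := by
  refine braid_scalar hi (fun r t hrt => ?_) hxx hyy hyx hxy'
  rcases eq_or_ne t 0 with rfl | ht
  · rw [zero_smul, add_zero] at hrt
    exact ⟨(smul_eq_zero.1 hrt).resolve_right hx0, rfl⟩
  · refine (hdep (-(r / t)) ?_).elim
    have h1 : t • y = -(r • x) := eq_neg_of_add_eq_zero_right hrt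
    rw [← one_smul ℂ y, ← inv_mul_cancel₀ ht, mul_smul, h1, smul_neg, smul_smul, neg_smul, div_eq_inv_mul]

/-- The short root groups at the bottom fix `E n`. -/
theorem Small.opp_fixed (h : Φ.Small ρ) {u : V} (hu : u ∈ Φ.E ρ n) {x : ι → F} (hx : x ∈ Φ.Cr) :
    ρ (Φ.em (Φ.f (n - 1)) x) u = u := by
  have hn := h.hn
  have hk : n - 1 < n := by omega
  obtain ⟨z, hz, hQz⟩ := Φ.Cr_rep 1
  obtain ⟨a1, a2, -, a4⟩ := Φ.nEl_spec (Φ.hpair hk) (Φ.Cr_e hz hk) (Φ.Cr_f hz hk) (hQz ▸ one_ne_zero)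
  obtain ⟨N, hN⟩ : ∃ N, N = Φ.nEl (Φ.e (n - 1)) (Φ.f (n - 1)) z := ⟨_, rfl⟩
  rw [← hN] at a1 a2 a4
  rw [hQz] at a1
  have hdiag : ∀ j < n - 1, act N (Φ.e j) = Φ.e j := fun j hj =>
    a4 _ (Φ.pee hk (by omega)) (Φ.pnfe hk (by omega) (by omega)) (by rw [pl_comm]; exact Φ.Cr_e hz (by omega))
  have t2 : act N⁻¹ (Φ.f (n - 1)) = (-1 : F) • Φ.e (n - 1) := by
    have h1 : act N ((-1 : F) • Φ.e (n - 1)) = Φ.f (n - 1) := by
      rw [map_smul, a1, smul_smul, neg_one_mul, neg_neg, one_smul]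
    conv_lhs => rw [← h1, act_inv_act]
  rw [← h.E_bottom] at hu
  have hu' : ρ N⁻¹ u ∈ Φ.E ρ n := by
    rw [← h.E_bottom]
    exact Φ.mapsTo_E_fix ρ (fun j hj => by conv_lhs => rw [← hdiag j hj, act_inv_act]) hu
  have h1 : N⁻¹ * Φ.em (Φ.f (n - 1)) x = Φ.em (Φ.e (n - 1)) ((-1 : F) • act N⁻¹ x) * N⁻¹ := by
    rw [Φ.mul_em, t2, Φ.em_smul_left]
  refine rep_injective ρ N⁻¹ ?_
  rw [← Module.End.mul_apply, ← map_mul, h1, map_mul, Module.End.mul_apply]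
  refine (Φ.mem_E ρ).1 hu' (n - 1) hk _ fun i hi => ?_
  rw [pl_smul_right]
  rcases eq_or_ne i (n - 1) with rfl | hne
  · rw [← act_polar N, act_act_inv, a1, pl_smul_left, Φ.Cr_f hx hk, mul_zero, mul_zero]
  · rw [← act_polar N, act_act_inv, hdiag i (by omega), Φ.Cr_e hx (by omega), mul_zero]

theorem Small.fixed_of_pr_zero (h : Φ.Small ρ) {v : V} (hv : v ∈ Φ.E0 ρ)
    (hc : ∀ i, i + 1 < n → Φ.pr ρ i v = 0) (g : OG Q) : ρ g v = v := by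
  have hn := h.hn
  obtain ⟨H, hH⟩ : ∃ H : Subgroup (OG Q), ∀ g, g ∈ H ↔ ρ g v = v := ⟨
    { carrier := {g : OG Q | ρ g v = v}
      one_mem' := by simp
      mul_mem' := fun {a b} (ha : ρ a v = v) (hb : ρ b v = v) => show ρ (a * b) v = v by
        rw [map_mul, Module.End.mul_apply, hb, ha]
      inv_mem' := fun {a} (ha : ρ a v = v) => show ρ a⁻¹ v = v by
        conv_lhs => rw [← ha, ← Module.End.mul_apply, ← map_mul, inv_mul_cancel, map_one, Module.End.one_apply] },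
    fun g => Iff.rfl⟩
  have hvE := ((Φ.mem_E0 ρ).1 hv).1
  have hs : ∀ i, i + 1 < n → Φ.sEl i (i + 1) 1 ∈ H := fun i hi =>
    (hH _).2 (sEl_fixed_of_pr h hi hv (hc i hi) one_ne_zero)
  have h1 : ∀ i, i < n → ∃ g ∈ H, ∃ c : F, c ≠ 0 ∧ act g (Φ.e 0) = c • Φ.e i := by
    intro i hi
    induction i with
    | zero => exact ⟨1, one_mem H, 1, one_ne_zero, by rw [act_one, one_smul]⟩
    | succ i ih =>
      obtain ⟨g, hg, c, hc, hgc⟩ := ih (by omega)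
      obtain ⟨s1, -⟩ := Φ.sEl_spec (show i < n by omega) hi (by omega) (one_ne_zero (α := F))
      exact ⟨_, mul_mem (hs i hi) hg, c, hc, by rw [act_mul, hgc, map_smul, s1, inv_one, one_smul]⟩
  have hk : n - 1 < n := by omega
  obtain ⟨z, hz, hQz⟩ := Φ.Cr_rep 1
  have hN : Φ.nEl (Φ.e (n - 1)) (Φ.f (n - 1)) z ∈ H := by
    have he : Φ.em (Φ.e (n - 1)) ((Q z)⁻¹ • z) ∈ H := (hH _).2 ((Φ.mem_E ρ).1 hvE (n - 1) hk _ fun l hl => by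
      rw [pl_smul_right, Φ.Cr_e hz (by omega), mul_zero])
    exact mul_mem (mul_mem he ((hH _).2 (h.opp_fixed hvE hz))) he
  obtain ⟨a1, -⟩ := Φ.nEl_spec (Φ.hpair hk) (Φ.Cr_e hz hk) (Φ.Cr_f hz hk) (hQz ▸ one_ne_zero)
  rw [hQz] at a1
  have h2 : ∀ d i, i + d + 1 = n → ∃ g ∈ H, ∃ c : F, c ≠ 0 ∧ act g (Φ.e 0) = c • Φ.f i := by
    intro d
    induction d with
    | zero =>
      intro i hi
      obtain rfl : i = n - 1 := by omega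
      obtain ⟨g, hg, c, hc, hgc⟩ := h1 (n - 1) hk
      exact ⟨_, mul_mem hN hg, c * -1, mul_ne_zero hc (neg_ne_zero.2 one_ne_zero), by
        rw [act_mul, hgc, map_smul, a1, smul_smul]⟩
    | succ d ihd =>
      intro i hi
      obtain ⟨g, hg, c, hc, hgc⟩ := ihd (i + 1) (by omega)
      obtain ⟨-, -, -, s4, -⟩ := Φ.sEl_spec (show i < n by omega) (show i + 1 < n by omega) (by omega) (one_ne_zero (α := F))
      exact ⟨_, mul_mem (hs i (by omega)) hg, c * -1, mul_ne_zero hc (neg_ne_zero.2 one_ne_zero), by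
        rw [act_mul, hgc, map_smul, s4, inv_one, smul_smul]⟩
  obtain ⟨N, hN, c, hc0, hNc⟩ := h2 (n - 1) 0 (by omega)
  have he : ∀ x, polar ⇑Q (Φ.e 0) x = 0 → Φ.em (Φ.e 0) x ∈ H := fun x hx =>
    (hH _).2 ((Φ.mem_E ρ).1 hvE 0 (by omega) x fun l hl => by rwa [Nat.le_zero.1 hl])
  have hf : ∀ x, polar ⇑Q (Φ.f 0) x = 0 → Φ.em (Φ.f 0) x ∈ H := fun x hx => by
    obtain ⟨w, hw⟩ : ∃ w, w = c⁻¹ • act N⁻¹ x := ⟨_, rfl⟩
    have hwe : polar ⇑Q (Φ.e 0) w = 0 := by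
      rw [hw, pl_smul_right, ← act_polar N, hNc, act_act_inv, pl_smul_left, hx, mul_zero, mul_zero]
    have h3 : Φ.em (Φ.f 0) x = N * Φ.em (Φ.e 0) w * N⁻¹ := by
      rw [Φ.mul_em, mul_inv_cancel_right, hNc, hw, map_smul, act_act_inv, Φ.em_smul_left, smul_smul,
        mul_inv_cancel₀ hc0, one_smul]
    rw [h3]
    exact mul_mem (mul_mem hN (he w hwe)) (inv_mem hN)
  have hcl : eichPair Q (Φ.e 0) (Φ.f 0) ≤ Subgroup.map (Omega F ⇑Q).subtype H := by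
    rw [eichPair, Subgroup.closure_le]
    rintro _ ⟨w, hw, hor⟩
    obtain ⟨hw1, hw2⟩ := mem_perp.1 hw
    rcases hor with rfl | rfl
    · exact ⟨Φ.em (Φ.e 0) w, he w hw1, rfl⟩
    · exact ⟨Φ.em (Φ.f 0) w, hf w hw2, rfl⟩
  have hG := omega_eq_eichPair (Good.of_card Φ.nd (.inr (by have := Φ.hn; omega))) (by have := Φ.hn; omega)
    (.inr Φ.hn) (Φ.hpair Φ.n_pos)
  have hmem : (g : IsoGrp Q) ∈ eichPair Q (Φ.e 0) (Φ.f 0) := by rw [← hG]; exact g.2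
  obtain ⟨g', hg', hgg⟩ := hcl hmem
  obtain rfl : g' = g := Subtype.ext hgg
  exact (hH _).1 hg'

end Frame

end Cfsg.Agent.OrthMinusMinDegree
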