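import Cfsg.Agent.Lib.OrthMinusMinDegree.Three
import Cfsg.Agent.EqLemmas
/-
The Gram matrix of the n-1 nodes is invertible, so `dim E n ≥ n-1`; the degree bound.
* Small.node_ne, node_scalar, chain_orth;  Small.node_indep;  chain_elim;  degree_bound
-/
set_option autoImplicit false
set_option linter.unusedSectionVars false

namespace Cfsg.Agent.OrthMinusMinDegree

open Cfsg Module
open Cfsg.Agent.Orth
open Cfsg.Agent.SUMinDegree (rep_injective)
open QuadraticMap (polar)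

/-- Eliminating along a path: the scalars stay in `[1, (q+1)/q]`. -/
theorem chain_elim {q : ℝ} (hq : 2 ≤ q) {k : ℕ} {c u d : ℕ → ℂ}
    (hg : ∀ i, i + 1 ≤ k → u i * d i * ((q : ℂ) + 1) ^ 2 = q)
    (h0 : c 0 + c 1 * d 0 = 0)
    (hs : ∀ i, i + 2 ≤ k → c i * u i + c (i + 1) + c (i + 2) * d (i + 1) = 0) :
    ∀ i, i + 1 ≤ k → ∃ r : ℝ, 1 ≤ r ∧ q * r ≤ q + 1 ∧ c i = -((r : ℂ) * d i * c (i + 1)) := by
  intro i
  induction i with
  | zero => exact fun _ => ⟨1, le_rfl, by linarith, by push_cast; linear_combination h0⟩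
  | succ i ih =>
    intro hi
    obtain ⟨r, hr1, hr2, hr⟩ := ih (by omega)
    obtain ⟨D, hD⟩ : ∃ D, D = (q + 1) ^ 2 - r * q := ⟨_, rfl⟩
    have hD0 : 0 < D := by rw [hD]; nlinarith
    refine ⟨(q + 1) ^ 2 / D, ?_, ?_, ?_⟩
    · rw [le_div_iff₀ hD0, hD]; nlinarith
    · rw [← mul_div_assoc, div_le_iff₀ hD0, hD]; nlinarith
    · have h1 := hs i (by omega)
      have h2 := hg i (by omega)
      rw [hr] at h1
      have hDc : (D : ℂ) ≠ 0 := by exact_mod_cast hD0.ne'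
      have key : c (i + 1) * (D : ℂ) = -(((q : ℂ) + 1) ^ 2 * d (i + 1) * c (i + 2)) := by
        rw [hD]
        push_cast
        linear_combination ((q : ℂ) + 1) ^ 2 * h1 + (r : ℂ) * c (i + 1) * h2
      refine mul_right_cancel₀ hDc ?_
      rw [key]
      push_cast
      field_simp

variable {ι : Type} [Fintype ι] [DecidableEq ι] {F : Type*} [Field F] [Fintype F]
variable {Q : QuadraticForm F (ι → F)} {n : ℕ} {Φ : Frame Q n}
variable {V : Type} [AddCommGroup V] [Module ℂ V] [FiniteDimensional ℂ V] {ρ : Representation ℂ (OG Q) V}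

namespace Frame

theorem Small.node_ne (h : Φ.Small ρ) (hfix : ∀ v : V, (∀ g, ρ g v = v) → v = 0) {i : ℕ} (hi : i + 1 < n) :
    ∃ x ∈ Φ.E0 ρ, x ≠ 0 ∧ Φ.pr ρ i x = x := by
  by_contra! hcon
  have hzero : ∀ v ∈ Φ.E0 ρ, Φ.pr ρ i v = 0 := fun v hv => by_contra fun hne =>
    hcon _ (Φ.pr_mem ρ hi hv) hne (h.pr_idem hi hv)
  have hn := h.hn
  have hdown : ∀ d m, m + d = i → ∀ v ∈ Φ.E0 ρ, Φ.pr ρ m v = 0 := by
    intro d
    induction d with
    | zero => intro m hm; rw [Nat.add_zero] at hm; rw [hm]; exact hzero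
    | succ d ihd =>
      intro m hm v hv
      exact h.pr_zero_left (show m + 2 < n by omega) (ihd (m + 1) (by omega)) hv
  have hup : ∀ m, i ≤ m → m + 1 < n → ∀ v ∈ Φ.E0 ρ, Φ.pr ρ m v = 0 := by
    intro m hm
    induction m, hm using Nat.le_induction with
    | base => exact fun _ => hzero
    | succ m _ ihm => exact fun hm1 v hv => h.pr_zero_right (show m + 2 < n by omega) (ihm (by omega)) hv
  have hall : ∀ m, m + 1 < n → ∀ v ∈ Φ.E0 ρ, Φ.pr ρ m v = 0 := fun m hm => by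
    rcases le_total i m with hle | hle
    · exact hup m hle hm
    · exact hdown (i - m) m (by omega)
  obtain ⟨v, hv⟩ := Φ.exists_wt ρ h.E_ne_bot
  have hv0 := Φ.wt_mem_E0 ρ hv
  exact hv.ne (hfix v (h.fixed_of_pr_zero hv0 fun m hm => hall m hm v hv0))

theorem Small.node_scalar (h : Φ.Small ρ) {i : ℕ} (hi : i + 1 < n) {x : V} (hx : x ∈ Φ.E0 ρ) (hx0 : x ≠ 0)
    (hxx : Φ.pr ρ i x = x) {w : V} (hw : w ∈ Φ.E0 ρ) : ∃ t : ℂ, Φ.pr ρ i w = t • x := by
  obtain ⟨t, ht⟩ := h.pr_rank hi hx hw (by rw [hxx]; exact hx0)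
  exact ⟨t, by rw [ht, hxx]⟩

theorem Small.chain_orth [Fintype (OG Q)] (h : Φ.Small ρ) {i m : ℕ} (him : i + 2 ≤ m ∨ m + 2 ≤ i)
    (hi : i + 1 < n) (hm : m + 1 < n) {v : V} (hv : v ∈ Φ.E0 ρ) : Φ.pr ρ i (Φ.pr ρ m v) = 0 := by
  rcases him with him | him
  · exact h.pr_orth_left hi hm rfl (fun w hw => h.Rc_sw him hm one_ne_zero hw) hv
  · exact h.orth_symm hm h hi rfl
      (fun w hw => h.pr_orth_left hm hi rfl (fun u hu => h.Rc_sw him hi one_ne_zero hu) hw) hv

/-- A node next to `y` killing it is impossible. -/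
theorem Small.no_kill [Fintype (OG Q)] (h : Φ.Small ρ) {i : ℕ} (hi : i + 2 < n) {x y : V} (hx : x ∈ Φ.E0 ρ)
    (hy : y ∈ Φ.E0 ρ) (hx0 : x ≠ 0) (hy0 : y ≠ 0) (hxx : Φ.pr ρ i x = x) (hyy : Φ.pr ρ (i + 1) y = y)
    (h0 : Φ.pr ρ (i + 1) x = 0) : False := by
  obtain ⟨b, hb⟩ := h.node_scalar (show i + 1 < n by omega) hx hx0 hxx hy
  have he := h.edge hi hx0 hy0 hxx hyy (fun t ht => hy0 (by rw [← hyy, ht, map_smul, h0, smul_zero]))
    (a := 0) hb (by rw [h0, zero_smul])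
  simp only [zero_mul] at he
  exact Nat.cast_ne_zero.2 (Fintype.card_ne_zero (α := F)) he.symm

theorem Small.node_indep [Fintype (OG Q)] (h : Φ.Small ρ) {i : ℕ} (hi : i + 2 < n) {α : ℕ → V}
    (hα : ∀ j, j + 1 < n → α j ∈ Φ.E0 ρ ∧ α j ≠ 0 ∧ Φ.pr ρ j (α j) = α j) {t : ℂ}
    (ht : α (i + 1) = t • α i) : False := by
  have hn := h.hn
  have hi1 : i + 1 + 1 < n := by omega
  obtain ⟨hx, hx0, hxx⟩ := hα i (by omega)
  obtain ⟨hy, hy0, hyy⟩ := hα (i + 1) hi1
  have ht0 : t ≠ 0 := fun e => hy0 (by rw [ht, e, zero_smul])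
  rcases Nat.lt_or_ge (i + 1 + 2) n with hlt | hge
  · obtain ⟨hz, hz0, hzz⟩ := hα (i + 2) (by omega)
    refine h.no_kill (i := i + 1) hlt hy hz hy0 hz0 hyy hzz ?_
    rw [ht, map_smul, ← hxx, h.chain_orth (.inr le_rfl) (show i + 1 + 1 + 1 < n from hlt) (by omega) hx, smul_zero]
  rcases Nat.eq_zero_or_pos i with hi0 | hi0
  · subst hi0
    have hxx' : Φ.pr ρ 1 (α 0) = α 0 := by
      refine smul_right_injective V ht0 ?_
      show t • Φ.pr ρ 1 (α 0) = t • α 0
      rw [← map_smul, ← ht, hyy]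
    exact h.three_dep (by omega) hx hx0 hxx hxx'
  · obtain ⟨j, rfl⟩ : ∃ j, i = j + 1 := ⟨i - 1, by omega⟩
    obtain ⟨hz, hz0, hzz⟩ := hα j (by omega)
    have h1 : Φ.pr ρ j (α (j + 1)) = 0 := by
      have h2 : Φ.pr ρ j (α (j + 1 + 1)) = 0 := by
        rw [← hyy, h.chain_orth (.inl le_rfl) (by omega) hi1 hy]
      rw [ht, map_smul] at h2
      exact (smul_eq_zero.1 h2).resolve_left ht0
    obtain ⟨a, ha⟩ := h.node_scalar (show j + 1 + 1 < n by omega) hx hx0 hxx hz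
    have he := h.edge (i := j) (show j + 2 < n by omega) hz0 hx0 hzz hxx
      (fun s hs => hx0 (by
        have h3 := h1
        rw [hs, map_smul, hzz, ← hs] at h3
        exact h3))
      (a := a) (b := 0) (by rw [h1, zero_smul]) ha
    simp only [mul_zero, zero_mul] at he
    exact Nat.cast_ne_zero.2 (Fintype.card_ne_zero (α := F)) he.symm

theorem Small.false (h : Φ.Small ρ) (hfix : ∀ v : V, (∀ g, ρ g v = v) → v = 0) : False := by
  classical
  have := Fintype.ofFinite (OG Q)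
  have hn := h.hn
  obtain ⟨p, hp⟩ : ∃ p, p + 3 = n := ⟨n - 3, by omega⟩
  -- the nodes 0..p+1
  have hN : ∀ i : ℕ, ∃ x : V, i + 1 < n → x ∈ Φ.E0 ρ ∧ x ≠ 0 ∧ Φ.pr ρ i x = x := fun i => by
    by_cases hi : i + 1 < n
    · exact (h.node_ne hfix hi).imp fun x hx _ => hx
    · exact ⟨0, fun h' => absurd h' hi⟩
  choose α hα using hN
  have hM : ∀ i j : ℕ, ∃ t : ℂ, i + 1 < n → j + 1 < n → Φ.pr ρ i (α j) = t • α i := fun i j => by
    by_cases hij : i + 1 < n ∧ j + 1 < n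
    · obtain ⟨t, ht⟩ := h.node_scalar hij.1 (hα i hij.1).1 (hα i hij.1).2.1 (hα i hij.1).2.2 (hα j hij.2).1
      exact ⟨t, fun _ _ => ht⟩
    · exact ⟨0, fun h1 h2 => absurd ⟨h1, h2⟩ hij⟩
  choose M hM using hM
  have horth : ∀ i j, i + 1 < n → j + 1 < n → (i + 2 ≤ j ∨ j + 2 ≤ i) → Φ.pr ρ i (α j) = 0 := fun i j hi hj hij => by
    rw [← (hα j hj).2.2, h.chain_orth hij hi hj (hα j hj).1]
  obtain ⟨q, hq⟩ : ∃ q : ℝ, q = (Fintype.card F : ℝ) := ⟨_, rfl⟩
  have hqc : (q : ℂ) = (Fintype.card F : ℂ) := by rw [hq]; norm_num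
  have hedge : ∀ i, i + 1 ≤ p + 1 → M (i + 1) i * M i (i + 1) * ((q : ℂ) + 1) ^ 2 = q := fun i hi => by
    rw [hqc]
    exact h.edge (show i + 2 < n by omega) (hα i (by omega)).2.1 (hα (i + 1) (by omega)).2.1 (hα i (by omega)).2.2
      (hα (i + 1) (by omega)).2.2 (fun t ht => h.node_indep (show i + 2 < n by omega) hα ht)
      (hM i (i + 1) (by omega) (by omega)) (hM (i + 1) i (by omega) (by omega))
  -- independence
  have hli : LinearIndependent ℂ fun i : Fin (p + 2) => α i := by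
    refine Fintype.linearIndependent_iff.2 fun g hg => ?_
    obtain ⟨c, hc⟩ : ∃ c : ℕ → ℂ, ∀ j : Fin (p + 2), c j = g j :=
      ⟨fun j => if hj : j < p + 2 then g ⟨j, hj⟩ else 0, fun j => dif_pos j.2⟩
    have hsum : ∑ j ∈ Finset.range (p + 2), c j • α j = 0 := by
      rw [← hg, Finset.sum_range]
      simp only [hc]
    have heq : ∀ i, i ≤ p + 1 → ∀ s : Finset ℕ, (∀ j ∈ s, j ≤ p + 1) → (∀ j, j ≤ p + 1 → j ∉ s → i + 2 ≤ j ∨ j + 2 ≤ i) →
        ∑ j ∈ s, (c j * M i j) • α i = 0 := by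
      intro i hi s hs hout
      have h1 := congrArg (Φ.pr ρ i) hsum
      rw [map_zero, map_sum] at h1
      rw [← h1, Finset.sum_congr rfl fun j hj => show (c j * M i j) • α i = Φ.pr ρ i (c j • α j) by
        rw [map_smul, hM i j (by omega) (by have := hs j hj; omega), smul_smul]]
      refine Finset.sum_subset (fun j hj => Finset.mem_range.2 (Nat.lt_succ_of_le (hs j hj))) fun j hj hjs => ?_
      have hj' : j ≤ p + 1 := Nat.lt_succ_iff.1 (Finset.mem_range.1 hj)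
      rw [map_smul, horth i j (by omega) (by omega) (hout j hj' hjs), smul_zero]
    have hdiag : ∀ i, i ≤ p + 1 → M i i = 1 := fun i hi =>
      smul_left_injective ℂ (hα i (by omega)).2.1
        (((hM i i (by omega) (by omega)).symm.trans (hα i (by omega)).2.2).trans (one_smul ℂ _).symm)
    -- the end node 0
    have e0 : c 0 + c 1 * M 0 1 = 0 := by
      have h1 := heq 0 (by omega) {0, 1} (by simp) (fun j _ hj => by simp at hj; omega)
      rw [Finset.sum_insert (by simp), Finset.sum_singleton,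
        ← add_smul, hdiag 0 (by omega), mul_one, smul_eq_zero] at h1
      exact h1.resolve_right (hα 0 (by omega)).2.1
    have es : ∀ i, i + 2 ≤ p + 1 → c i * M (i + 1) i + c (i + 1) + c (i + 2) * M (i + 1) (i + 2) = 0 := fun i hi => by
      have h1 := heq (i + 1) (by omega) {i, i + 1, i + 2} (fun j hj => by simp at hj; omega)
        (fun j _ hj => by simp at hj; omega)
      rw [Finset.sum_insert (by simp),
        Finset.sum_insert (by simp), Finset.sum_singleton, ← add_smul, ← add_smul, hdiag (i + 1) (by omega), mul_one,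
        smul_eq_zero] at h1
      rw [← add_assoc] at h1
      exact h1.resolve_right (hα (i + 1) (by omega)).2.1
    have ea : c p * M (p + 1) p + c (p + 1) = 0 := by
      have h1 := heq (p + 1) le_rfl {p, p + 1} (fun j hj => by simp at hj; omega)
        (fun j hj1 hj => by simp at hj; omega)
      rw [Finset.sum_insert (by simp), Finset.sum_singleton,
        ← add_smul, hdiag (p + 1) le_rfl, mul_one, smul_eq_zero] at h1
      exact h1.resolve_right (hα (p + 1) (by omega)).2.1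
    have hq2 : (2 : ℝ) ≤ q := by rw [hq]; exact_mod_cast two_le_card (F := F)
    have hel := chain_elim hq2 (k := p + 1) (c := c) (u := fun i => M (i + 1) i) (d := fun i => M i (i + 1))
      (fun i hi => hedge i hi) e0 es
    have hcp : c (p + 1) = 0 := by
      obtain ⟨r, hr1, hr2, hr⟩ := hel p le_rfl
      have g1 := hedge p le_rfl
      have key : c (p + 1) * ((((q + 1) ^ 2 - r * q : ℝ)) : ℂ) = 0 := by
        rw [hr] at ea
        push_cast
        linear_combination ((q : ℂ) + 1) ^ 2 * ea + (r : ℂ) * c (p + 1) * g1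
      refine (mul_eq_zero.1 key).resolve_right ?_
      exact_mod_cast ne_of_gt (show (0 : ℝ) < (q + 1) ^ 2 - r * q by nlinarith)
    have hdown : ∀ e i, i + e = p + 1 → c i = 0 := by
      intro e
      induction e with
      | zero => intro i hi; rw [show i = p + 1 by omega]; exact hcp
      | succ e ihe =>
        intro i hi
        obtain ⟨r, -, -, hr⟩ := hel i (by omega)
        rw [hr, ihe (i + 1) (by omega), mul_zero, neg_zero]
    intro j
    rw [← hc j]
    exact hdown (p + 1 - j) j (by omega)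
  have h1 := finrank_span_eq_card hli
  have h2 : Submodule.span ℂ (Set.range fun i : Fin (p + 2) => α i) ≤ Φ.E ρ n := by
    rw [Submodule.span_le]
    rintro _ ⟨l, rfl⟩
    exact ((Φ.mem_E0 ρ).1 (hα l (by omega)).1).1
  have h3 := Submodule.finrank_mono h2
  rw [h1, Fintype.card_fin] at h3
  have h4 := h.bound_of_fix
  omega

theorem fixed_of_E_top (hn : 3 ≤ n) (h : Φ.E ρ 1 = ⊤) (g : OG Q) (v : V) : ρ g v = v := by
  have hn0 : 0 < n := by omega
  have he : ∀ (u : V) x, polar ⇑Q (Φ.e 0) x = 0 → ρ (Φ.em (Φ.e 0) x) u = u := fun u x hx =>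
    (Φ.mem_E ρ).1 (h ▸ Submodule.mem_top : u ∈ Φ.E ρ 1) 0 one_pos x fun l hl => by
      rwa [Nat.le_zero.1 hl]
  obtain ⟨z, hz, hQz⟩ := Φ.Cr_rep 1
  obtain ⟨a1, -, -, -⟩ := Φ.nEl_spec (Φ.hpair hn0) (Φ.Cr_e hz hn0) (Φ.Cr_f hz hn0) (hQz ▸ one_ne_zero)
  obtain ⟨N, hN⟩ : ∃ N, N = Φ.nEl (Φ.e 0) (Φ.f 0) z := ⟨_, rfl⟩
  rw [← hN, hQz] at a1
  obtain ⟨H, hH⟩ : ∃ H : Subgroup (OG Q), ∀ g, g ∈ H ↔ ∀ u, ρ g u = u := ⟨
    { carrier := {g : OG Q | ∀ u, ρ g u = u}
      one_mem' := fun u => by rw [map_one, Module.End.one_apply]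
      mul_mem' := fun {a b} (ha : ∀ u, ρ a u = u) (hb : ∀ u, ρ b u = u) u => by
        rw [map_mul, Module.End.mul_apply, hb, ha]
      inv_mem' := fun {a} (ha : ∀ u, ρ a u = u) u => by
        conv_lhs => rw [← ha u, ← Module.End.mul_apply, ← map_mul, inv_mul_cancel, map_one, Module.End.one_apply] },
    fun g => Iff.rfl⟩
  have hcl : eichPair Q (Φ.e 0) (Φ.f 0) ≤ Subgroup.map (Omega F ⇑Q).subtype H := by
    rw [eichPair, Subgroup.closure_le]
    rintro _ ⟨x, hx, hor⟩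
    obtain ⟨hx1, hx2⟩ := mem_perp.1 hx
    rcases hor with rfl | rfl
    · exact ⟨Φ.em (Φ.e 0) x, (hH _).2 fun u => he u x hx1, rfl⟩
    · refine ⟨Φ.em (Φ.f 0) x, (hH _).2 fun u => ?_, rfl⟩
      obtain ⟨w, hw⟩ : ∃ w, w = (-1 : F) • act N⁻¹ x := ⟨_, rfl⟩
      have hwe : polar ⇑Q (Φ.e 0) w = 0 := by
        rw [hw, pl_smul_right, ← act_polar N, a1, act_act_inv, pl_smul_left, hx2, mul_zero, mul_zero]
      have h3 : Φ.em (Φ.f 0) x = N * Φ.em (Φ.e 0) w * N⁻¹ := by
        rw [Φ.mul_em, mul_inv_cancel_right, a1, hw, map_smul, act_act_inv, Φ.em_smul_left, smul_smul,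
          neg_one_mul, neg_neg, one_smul]
      rw [h3, map_mul, map_mul, Module.End.mul_apply, Module.End.mul_apply, he _ w hwe, ← Module.End.mul_apply,
        ← map_mul, mul_inv_cancel, map_one, Module.End.one_apply]
  have hG := omega_eq_eichPair (Good.of_card Φ.nd (.inr (by have := Φ.hn; omega))) (by have := Φ.hn; omega)
    (.inr Φ.hn) (Φ.hpair Φ.n_pos)
  have hmem : (g : IsoGrp Q) ∈ eichPair Q (Φ.e 0) (Φ.f 0) := by rw [← hG]; exact g.2
  obtain ⟨g', hg', hgg⟩ := hcl hmem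
  obtain rfl : g' = g := Subtype.ext hgg
  exact (hH _).1 hg' v

end Frame

/-- The bound for representations without invariant vectors. -/
theorem degree_bound [Nontrivial V] (Ψ : Frame Q n) (hn : 3 ≤ n)
    (hfix : ∀ v : V, (∀ g, ρ g v = v) → v = 0) :
    (Fintype.card F ^ (n + 1) + 1) * (Fintype.card F ^ n - Fintype.card F) ≤
      (Fintype.card F ^ 2 - 1) * finrank ℂ V := by
  by_contra hlt
  push Not at hlt
  obtain ⟨v0, hv0⟩ := exists_ne (0 : V)
  exact (Frame.Small.mk hn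
    (fun h => hv0 (hfix v0 fun g => Frame.fixed_of_E_top hn h g v0)) hlt : Ψ.Small ρ).false hfix

end Cfsg.Agent.OrthMinusMinDegree
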