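import Cfsg.Agent.Lib.OrthMinusMinDegree.Weights
import Cfsg.Agent.Lib.OrthMinDegree.Fourier
import Cfsg.Agent.EqLemmas
/-
The swaps on the vectors fixed by the maximal unipotent subgroup and by the torus.
* T0, E0;  sw_sq, sw_adj, sw_braid;  Rc_sw_of_commute;  Rc_sw;  ker_Rc
-/
set_option autoImplicit false
set_option linter.unusedSectionVars false

namespace Cfsg.Agent.OrthMinusMinDegree

open Cfsg Module
open Cfsg.Agent.Orth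
open Cfsg.Agent.SUMinDegree (rep_injective)
open Cfsg.Agent.OrthMinDegree (Ip Ip_rep Ip_conj Ip_sum_left Ip_smul_left)
open QuadraticMap (polar)
open scoped ComplexConjugate

variable {ι : Type} [Fintype ι] [DecidableEq ι] {F : Type*} [Field F] [Fintype F]
variable {Q : QuadraticForm F (ι → F)} {n : ℕ} (Φ : Frame Q n)
variable {V : Type} [AddCommGroup V] [Module ℂ V] [FiniteDimensional ℂ V] (ρ : Representation ℂ (OG Q) V)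

namespace Frame

/-- The diagonal elements fixing every weight. -/
def T0 : Subgroup (OG Q) where
  carrier := {g | g ∈ Φ.Dg ∧ ∀ v, Φ.IsWt ρ v → ρ g v = v}
  one_mem' := ⟨one_mem _, fun v _ => by rw [map_one, Module.End.one_apply]⟩
  mul_mem' := fun {a b} ha hb => ⟨mul_mem ha.1 hb.1, fun v hv => by
    rw [map_mul, Module.End.mul_apply, hb.2 v hv, ha.2 v hv]⟩
  inv_mem' := fun {a} ha => ⟨inv_mem ha.1, fun v hv => by
    conv_lhs => rw [← ha.2 v hv, ← Module.End.mul_apply, ← map_mul, inv_mul_cancel, map_one, Module.End.one_apply]⟩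

theorem mem_T0 {g : OG Q} : g ∈ Φ.T0 ρ ↔ g ∈ Φ.Dg ∧ ∀ v, Φ.IsWt ρ v → ρ g v = v := Iff.rfl

theorem conj_T0 {i : ℕ} (hi : i + 1 < n) {g : OG Q} (hg : g ∈ Φ.T0 ρ) :
    (Φ.sEl i (i + 1) 1)⁻¹ * g * Φ.sEl i (i + 1) 1 ∈ Φ.T0 ρ :=
  ⟨(Φ.conj_swap hi hg.1).1, fun _ hv => fixed_of_swap hi hv hg.1 (hg.2 _ (Φ.swap_wt ρ hi hv))⟩

/-- Vectors fixed by the unipotent group and by `T0`. -/
noncomputable def E0 : Submodule ℂ V :=
  Φ.E ρ n ⊓ ⨅ (g : OG Q) (_ : g ∈ Φ.T0 ρ), LinearMap.ker (ρ g - LinearMap.id)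

theorem mem_E0 {v : V} : v ∈ Φ.E0 ρ ↔ v ∈ Φ.E ρ n ∧ ∀ g ∈ Φ.T0 ρ, ρ g v = v := by
  simp [E0, sub_eq_zero]

theorem wt_mem_E0 {v : V} (hv : Φ.IsWt ρ v) : v ∈ Φ.E0 ρ :=
  (Φ.mem_E0 ρ).2 ⟨hv.mem, fun _ hg => hg.2 v hv⟩

theorem sw_mem_E0 {i : ℕ} (hi : i + 1 < n) {v : V} (hv : v ∈ Φ.E0 ρ) : Φ.swapVec ρ i v ∈ Φ.E0 ρ := by
  obtain ⟨h1, h2⟩ := (Φ.mem_E0 ρ).1 hv
  refine (Φ.mem_E0 ρ).2 ⟨Φ.swapVec_mem ρ hi h1, fun g hg => ?_⟩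
  rw [Φ.swapVec_scal ρ hi hg.1 (c := 1) (by rw [h2 _ (Φ.conj_T0 ρ hi hg), one_smul]), one_smul]

variable {Φ ρ}

theorem Small.pairT_mem_T0 (h : Φ.Small ρ) {i j : ℕ} (hi : i < n) (hj : j < n) (hij : i ≠ j) {x : F}
    (hx : x ≠ 0) : Φ.pairT i j x ∈ Φ.T0 ρ :=
  ⟨Φ.pairT_mem_Dg hi hj hij hx, fun _ hv => h.pair_fix hv hi hj hij hx⟩

theorem Small.sq_mem_T0 (h : Φ.Small ρ) {i : ℕ} (hi : i + 1 < n) :
    Φ.sEl i (i + 1) 1 * Φ.sEl i (i + 1) 1 ∈ Φ.T0 ρ := by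
  have hi' : i < n := by omega
  have he : Φ.sEl i (i + 1) 1 * Φ.sEl i (i + 1) 1 = Φ.pairT i (i + 1) (-1 : F) := by
    refine Φ.dg_ext (Φ.sEl_sq_mem hi) (Φ.pairT_mem_Dg hi' hi (by omega) (neg_ne_zero.2 one_ne_zero)) fun l hl => ?_
    obtain ⟨s1, s2, -, -, s5⟩ := Φ.sEl_spec hi' hi (by omega) (one_ne_zero (α := F))
    simp only [inv_one, one_smul] at s1 s2
    rw [act_mul, Φ.pairT_e hi' hi (by omega) (neg_ne_zero.2 one_ne_zero) hl]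
    rcases eq_or_ne l i with rfl | hli
    · rw [if_pos rfl, s1, s2]
    rcases eq_or_ne l (i + 1) with rfl | hlj
    · rw [if_neg (by omega), if_pos rfl, s2, map_smul, s1, inv_neg, inv_one]
    · rw [if_neg hli, if_neg hlj, one_smul]
      have h1 := s5 _ (Φ.pee hi' hl) (Φ.pnfe hi' hl hli.symm) (Φ.pee hi hl) (Φ.pnfe hi hl hlj.symm)
      rw [h1, h1]
  rw [he]
  exact h.pairT_mem_T0 hi' hi (by omega) (neg_ne_zero.2 one_ne_zero)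

theorem Small.sw_sq (h : Φ.Small ρ) {i : ℕ} (hi : i + 1 < n) {v : V} (hv : v ∈ Φ.E0 ρ) :
    Φ.swapVec ρ i (Φ.swapVec ρ i v) =
      (Fintype.card F : ℂ) • v + ((Fintype.card F : ℂ) - 1) • Φ.swapVec ρ i v := by
  classical
  obtain ⟨h1, h2⟩ := (Φ.mem_E0 ρ).1 hv
  rw [Φ.swapVec_swapVec ρ hi h1, h2 _ (h.sq_mem_T0 hi),
    Finset.sum_congr rfl fun (c : Fˣ) _ => show Φ.swapVec ρ i (ρ (Φ.pairT i (i + 1) (c : F))⁻¹ v) = Φ.swapVec ρ i v by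
      rw [h2 _ (inv_mem (h.pairT_mem_T0 (show i < n by omega) hi (by omega) c.ne_zero))],
    Finset.sum_const, Finset.card_univ, Fintype.card_units, ← Nat.cast_smul_eq_nsmul ℂ,
    Nat.cast_sub (Fintype.card_pos (α := F)), Nat.cast_one]

theorem Small.sw_adj [Fintype (OG Q)] (h : Φ.Small ρ) {i : ℕ} (hi : i + 1 < n) {u w : V} (hu : u ∈ Φ.E0 ρ)
    (hw : w ∈ Φ.E0 ρ) : Ip ρ (Φ.swapVec ρ i u) w = Ip ρ u (Φ.swapVec ρ i w) := by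
  have key : ∀ {a b : V}, b ∈ Φ.E0 ρ → Ip ρ (Φ.swapVec ρ i a) b =
      (Fintype.card F : ℂ) * Ip ρ (ρ (Φ.sEl i (i + 1) 1) a) b := by
    intro a b hb
    rw [swapVec_apply, Ip_sum_left, Finset.sum_congr rfl fun t _ => show
        Ip ρ (ρ (Φ.rEl i t) (ρ (Φ.sEl i (i + 1) 1) a)) b = Ip ρ (ρ (Φ.sEl i (i + 1) 1) a) b by
      conv_lhs => rw [← Φ.rEl_fixed ρ hi ((Φ.mem_E0 ρ).1 hb).1 t]
      rw [Ip_rep],
      Finset.sum_const, Finset.card_univ, nsmul_eq_mul]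
  obtain ⟨s, hs⟩ : ∃ s, s = Φ.sEl i (i + 1) 1 := ⟨_, rfl⟩
  have h1 : ρ s⁻¹ w = ρ s w := by
    rw [show s⁻¹ = s * (s * s)⁻¹ by group, map_mul, Module.End.mul_apply,
      ((Φ.mem_E0 ρ).1 hw).2 _ (inv_mem (hs ▸ h.sq_mem_T0 hi))]
  rw [key hw, ← Ip_conj ρ (Φ.swapVec ρ i w) u, key hu, map_mul, map_natCast, Ip_conj, ← hs]
  congr 1
  rw [← h1, ← Ip_rep ρ s u (ρ s⁻¹ w), ← Module.End.mul_apply (ρ s) (ρ s⁻¹), ← map_mul, mul_inv_cancel, map_one,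
    Module.End.one_apply]

theorem sw_braid {i : ℕ} (hi : i + 2 < n) (v : V) :
    Φ.swapVec ρ i (Φ.swapVec ρ (i + 1) (Φ.swapVec ρ i v)) =
      Φ.swapVec ρ (i + 1) (Φ.swapVec ρ i (Φ.swapVec ρ (i + 1) v)) := by
  have h0 : i < n := by omega
  have h1 : i + 1 < n := by omega
  have h2 : i + 1 + 1 < n := by omega
  obtain ⟨s, hs⟩ : ∃ s, s = Φ.sEl i (i + 1) 1 := ⟨_, rfl⟩
  obtain ⟨t, ht⟩ : ∃ t, t = Φ.sEl (i + 1) (i + 1 + 1) 1 := ⟨_, rfl⟩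
  obtain ⟨B, hB⟩ : ∃ B : F → OG Q, ∀ b, B b = Φ.em (Φ.e i) (b • Φ.f (i + 1 + 1)) := ⟨_, fun b => rfl⟩
  obtain ⟨a1, a2, a3, a4, a5⟩ := Φ.sEl_spec h0 h1 (by omega) (one_ne_zero (α := F))
  obtain ⟨b1, b2, b3, b4, b5⟩ := Φ.sEl_spec h1 h2 (by omega) (one_ne_zero (α := F))
  rw [← hs] at a1 a2 a3 a4 a5
  rw [← ht] at b1 b2 b3 b4 b5
  simp only [inv_one, one_smul] at a1 a2 a3 a4 b1 b2 b3 b4
  have aff : act s (Φ.f (i + 1 + 1)) = Φ.f (i + 1 + 1) :=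
    a5 _ (Φ.pnef _ _ h0 h2 (by omega)) (Φ.pff h0 h2) (Φ.pnef _ _ h1 h2 (by omega)) (Φ.pff h1 h2)
  have bee : act t (Φ.e i) = Φ.e i :=
    b5 _ (Φ.pee h1 h0) (Φ.pnfe h1 h0 (by omega)) (Φ.pee h2 h0) (Φ.pnfe h2 h0 (by omega))
  have bff : act t (Φ.f i) = Φ.f i :=
    b5 _ (Φ.pnef _ _ h1 h0 (by omega)) (Φ.pff h1 h0) (Φ.pnef _ _ h2 h0 (by omega)) (Φ.pff h2 h0)
  have aee : act s (Φ.e (i + 1 + 1)) = Φ.e (i + 1 + 1) :=
    a5 _ (Φ.pee h0 h2) (Φ.pnfe h0 h2 (by omega)) (Φ.pee h1 h2) (Φ.pnfe h1 h2 (by omega))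
  have sC : ∀ b, s * Φ.rEl (i + 1) b = B (-b) * s := fun b => by
    rw [rEl, Φ.mul_em, a2, map_smul, aff, Φ.em_smul_left, hB, smul_smul, neg_one_mul]
  have tA : ∀ b, t * Φ.rEl i b = B b * t := fun b => by
    rw [rEl, Φ.mul_em, bee, map_smul, b3, hB]
  have sB : ∀ b, s * B b = Φ.rEl (i + 1) b * s := fun b => by
    rw [hB, rEl, Φ.mul_em, a1, map_smul, aff]
  have tB : ∀ b, t * B (-b) = Φ.rEl i b * t := fun b => by
    rw [hB, rEl, Φ.mul_em, bee, map_smul, b4, smul_smul, mul_neg_one, neg_neg]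
  have hw0 : s * t * s = t * s * t := by
    refine Φ.ext (fun l hl => ?_) (fun l hl => ?_) fun x hx => by
      rw [hs, ht, act_mul, act_mul, act_mul, act_mul, Φ.sEl_Cr h1 one_ne_zero hx, Φ.sEl_Cr h2 one_ne_zero hx,
        Φ.sEl_Cr h1 one_ne_zero hx, Φ.sEl_Cr h2 one_ne_zero hx]
    · simp only [act_mul]
      rcases eq_or_ne l i with rfl | hli
      · rw [a1, b1, aee, bee, a1, b1]
      rcases eq_or_ne l (i + 1) with rfl | hlj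
      · rw [a2, b1]
        simp only [map_smul, bee, a1, b2, aee]
      rcases eq_or_ne l (i + 1 + 1) with rfl | hlk
      · rw [aee, b2]
        simp only [map_smul, a2, bee]
      · have hs' := a5 _ (Φ.pee h0 hl) (Φ.pnfe h0 hl hli.symm) (Φ.pee h1 hl) (Φ.pnfe h1 hl hlj.symm)
        have ht' := b5 _ (Φ.pee h1 hl) (Φ.pnfe h1 hl hlj.symm) (Φ.pee h2 hl) (Φ.pnfe h2 hl hlk.symm)
        rw [hs', ht', hs', ht']
    · simp only [act_mul]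
      rcases eq_or_ne l i with rfl | hli
      · rw [a3, b3, aff, bff, a3, b3]
      rcases eq_or_ne l (i + 1) with rfl | hlj
      · rw [a4, b3]
        simp only [map_smul, bff, a3, b4, aff]
      rcases eq_or_ne l (i + 1 + 1) with rfl | hlk
      · rw [aff, b4]
        simp only [map_smul, a4, bff]
      · have hs' := a5 _ (Φ.pnef _ _ h0 hl hli.symm) (Φ.pff h0 hl) (Φ.pnef _ _ h1 hl hlj.symm) (Φ.pff h1 hl)
        have ht' := b5 _ (Φ.pnef _ _ h1 hl hlj.symm) (Φ.pff h1 hl) (Φ.pnef _ _ h2 hl hlk.symm) (Φ.pff h2 hl)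
        rw [hs', ht', hs', ht']
  have hBadd : ∀ b b', B (b + b') = B b * B b' := fun b b' => by
    have h3 : ∀ c : F, polar ⇑Q (Φ.e i) (c • Φ.f (i + 1 + 1)) = 0 := fun c => by
      rw [pl_smul_right, Φ.pnef _ _ h0 h2 (by omega), mul_zero]
    rw [hB, hB, hB, add_smul, Φ.em_add (Φ.qe i h0) (h3 b) (h3 b')]
  have hCA : ∀ c a, Φ.rEl (i + 1) c * Φ.rEl i a = Φ.rEl i a * B (a * c) * Φ.rEl (i + 1) c := fun c a => by
    have e1 : act (Φ.rEl (i + 1) c) (Φ.e i) = Φ.e i := Φ.rEl_fix_W h2 c h0 (by omega)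
    have e2 : act (Φ.rEl (i + 1) c) (Φ.f (i + 1)) = Φ.f (i + 1) + c • Φ.f (i + 1 + 1) := by
      rw [rEl, Φ.act_em (Φ.qe _ h1) (by rw [pl_smul_right, Φ.pnef _ _ h1 h2 (by omega), mul_zero]), Φ.pef _ h1,
        pl_smul_left, Φ.pff h2 h1, Q_smul, Φ.qf _ h2]
      module
    show Φ.rEl (i + 1) c * Φ.em (Φ.e i) (a • Φ.f (i + 1)) =
      Φ.em (Φ.e i) (a • Φ.f (i + 1)) * B (a * c) * Φ.rEl (i + 1) c
    rw [Φ.mul_em, e1, map_smul, e2, smul_add, smul_smul,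
      Φ.em_add (Φ.qe i h0) (by rw [pl_smul_right, Φ.pnef _ _ h0 h1 (by omega), mul_zero])
        (by rw [pl_smul_right, Φ.pnef _ _ h0 h2 (by omega), mul_zero]), hB]
  have hCB : ∀ c b, Φ.rEl (i + 1) c * B b = B b * Φ.rEl (i + 1) c := fun c b => by
    have e2 : act (Φ.rEl (i + 1) c) (Φ.f (i + 1 + 1)) = Φ.f (i + 1 + 1) := by
      rw [rEl]
      exact Φ.act_em_fix (Φ.qe _ h1) (by rw [pl_smul_right, Φ.pnef _ _ h1 h2 (by omega), mul_zero])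
        (Φ.pnef _ _ h1 h2 (by omega)) (by rw [pl_smul_left, Φ.pff h2 h2, mul_zero])
    rw [hB, Φ.mul_em, Φ.rEl_fix_W h2 c h0 (by omega), map_smul, e2]
  have hBA : ∀ b a, B b * Φ.rEl i a = Φ.rEl i a * B b := fun b a => by
    have h3 : ∀ c : F, polar ⇑Q (Φ.e i) (c • Φ.f (i + 1 + 1)) = 0 := fun c => by
      rw [pl_smul_right, Φ.pnef _ _ h0 h2 (by omega), mul_zero]
    have h4 : polar ⇑Q (Φ.e i) (a • Φ.f (i + 1)) = 0 := by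
      rw [pl_smul_right, Φ.pnef _ _ h0 h1 (by omega), mul_zero]
    rw [hB, rEl, ← Φ.em_add (Φ.qe i h0) (h3 b) h4, add_comm, Φ.em_add (Φ.qe i h0) h4 (h3 b)]
  -- the two words
  have hL : ∀ a b c, Φ.rEl i a * s * (Φ.rEl (i + 1) b * t) * (Φ.rEl i c * s) =
      Φ.rEl i a * B (-b) * Φ.rEl (i + 1) c * (s * t * s) := fun a b c => by
    calc _ = Φ.rEl i a * (s * Φ.rEl (i + 1) b) * (t * Φ.rEl i c) * s := by group
      _ = Φ.rEl i a * B (-b) * (s * B c) * t * s := by rw [sC, tA]; group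
      _ = _ := by rw [sB]; group
  have hR : ∀ a b c, Φ.rEl (i + 1) a * t * (Φ.rEl i b * s) * (Φ.rEl (i + 1) c * t) =
      Φ.rEl i c * B (a * c + b) * Φ.rEl (i + 1) a * (t * s * t) := fun a b c => by
    calc _ = Φ.rEl (i + 1) a * (t * Φ.rEl i b) * (s * Φ.rEl (i + 1) c) * t := by group
      _ = Φ.rEl (i + 1) a * B b * (t * B (-c)) * s * t := by rw [tA, sC]; group
      _ = Φ.rEl (i + 1) a * (B b * Φ.rEl i c) * (t * s * t) := by rw [tB]; group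
      _ = (Φ.rEl (i + 1) a * Φ.rEl i c) * B b * (t * s * t) := by rw [hBA]; group
      _ = Φ.rEl i c * B (c * a) * (Φ.rEl (i + 1) a * B b) * (t * s * t) := by rw [hCA]; group
      _ = _ := by rw [hCB, hBadd, mul_comm c a]; group
  simp only [swapVec_apply, map_sum, ← hs, ← ht]
  simp only [← Module.End.mul_apply, ← map_mul]
  have hflat : ∀ G : F → F → F → V, ∑ a, ∑ b, ∑ c, G a b c = ∑ p : F × F × F, G p.1 p.2.1 p.2.2 := fun G => by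
    simp only [Fintype.sum_prod_type]
  rw [hflat, hflat]
  have hinv : Function.Involutive (fun p : F × F × F => (p.2.2, -(p.1 * p.2.2 + p.2.1), p.1)) := by
    rintro ⟨a, b, c⟩
    refine Prod.ext rfl (Prod.ext ?_ rfl)
    show -(c * a + -(a * c + b)) = b
    ring
  refine Fintype.sum_equiv hinv.toPerm _ _ fun p => ?_
  obtain ⟨a, b, c⟩ := p
  dsimp only [Function.Involutive.coe_toPerm]
  congr 2
  simp only [mul_assoc] at hL hR hw0 ⊢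
  rw [hL, hR, hw0]
  congr 2
  ring

theorem Rc_sw_of_commute {i : ℕ} {m : ℕ} {Ψ : Frame Q n} (hm : m + 1 < n) {α : F} {v : V} (hv : v ∈ Ψ.E ρ n)
    (hcs : ∀ t, Ψ.rEl m t * Φ.sEl i (i + 1) 1 = Φ.sEl i (i + 1) 1 * Ψ.rEl m t)
    (hcs' : Ψ.sEl m (m + 1) 1 * Φ.sEl i (i + 1) 1 = Φ.sEl i (i + 1) 1 * Ψ.sEl m (m + 1) 1)
    (hcr : ∀ t t', Ψ.rEl m t * Φ.rEl i t' = Φ.rEl i t' * Ψ.rEl m t)
    (hcr' : ∀ t', Ψ.sEl m (m + 1) 1 * Φ.rEl i t' = Φ.rEl i t' * Ψ.sEl m (m + 1) 1)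
    (hfix : ρ (Ψ.sEl m (m + 1) 1) (Φ.Rc ρ i α v) = Φ.Rc ρ i α v) :
    Φ.Rc ρ i α (Ψ.swapVec ρ m v) = (Fintype.card F : ℂ) • Φ.Rc ρ i α v := by
  have hc : ∀ g : OG Q, g * Φ.sEl i (i + 1) 1 = Φ.sEl i (i + 1) 1 * g →
      (∀ t', g * Φ.rEl i t' = Φ.rEl i t' * g) → ∀ w, Φ.Rc ρ i α (ρ g w) = ρ g (Φ.Rc ρ i α w) := by
    intro g h1 h2 w
    rw [Rc_apply, Rc_apply, map_sum]
    refine Finset.sum_congr rfl fun t _ => ?_
    rw [map_smul, ← Module.End.mul_apply (ρ g), ← map_mul, h2, map_mul, Module.End.mul_apply,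
      ← Module.End.mul_apply (ρ g), ← map_mul, h1, map_mul, Module.End.mul_apply]
  have hr : ∀ t, ρ (Ψ.rEl m t) (Φ.Rc ρ i α v) = Φ.Rc ρ i α v := fun t => by
    rw [← hc _ (hcs t) (hcr t), Ψ.rEl_fixed ρ hm hv]
  rw [swapVec_apply, map_sum, Finset.sum_congr rfl fun t _ => show
      Φ.Rc ρ i α (ρ (Ψ.rEl m t) (ρ (Ψ.sEl m (m + 1) 1) v)) = Φ.Rc ρ i α v by
    rw [hc _ (hcs t) (hcr t), hc _ hcs' hcr', hfix, hr],
    Finset.sum_const, Finset.card_univ, Nat.cast_smul_eq_nsmul]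

theorem commute_of_fix {i : ℕ} {g : OG Q}
    (h1 : act g (Φ.e i) = Φ.e i) (h2 : act g (Φ.e (i + 1)) = Φ.e (i + 1)) (h3 : act g (Φ.f i) = Φ.f i)
    (h4 : act g (Φ.f (i + 1)) = Φ.f (i + 1)) :
    g * Φ.sEl i (i + 1) 1 = Φ.sEl i (i + 1) 1 * g ∧ ∀ t, g * Φ.rEl i t = Φ.rEl i t * g := by
  have hr : ∀ t, g * Φ.rEl i t = Φ.rEl i t * g := fun t => by rw [rEl, Φ.mul_em, h1, map_smul, h4]
  refine ⟨?_, hr⟩
  have hR : ∀ a : F, g * Φ.em (Φ.e (i + 1)) (a • Φ.f i) = Φ.em (Φ.e (i + 1)) (a • Φ.f i) * g := fun a => by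
    rw [Φ.mul_em, h2, map_smul, h3]
  have e : Φ.sEl i (i + 1) 1 = Φ.rEl i 1 * Φ.em (Φ.e (i + 1)) ((-(1 : F)⁻¹) • Φ.f i) * Φ.rEl i 1 := by
    rw [sEl, rEl]
  rw [e]
  exact (Commute.mul_right (Commute.mul_right (hr 1) (hR _)) (hr 1))

theorem Small.Rc_sw (h : Φ.Small ρ) {i m : ℕ} (him : i + 2 ≤ m) (hm : m + 1 < n) {α : F} (hα : α ≠ 0) {v : V}
    (hv : v ∈ Φ.E ρ n) : Φ.Rc ρ i α (Φ.swapVec ρ m v) = (Fintype.card F : ℂ) • Φ.Rc ρ i α v := by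
  have hm' : m < n := by omega
  have hi' : i < n := by omega
  have hi1 : i + 1 < n := by omega
  obtain ⟨-, -, -, -, s5⟩ := Φ.sEl_spec hm' hm (by omega) (one_ne_zero (α := F))
  have hs := commute_of_fix (Φ := Φ) (i := i)
    (s5 _ (Φ.pee hm' hi') (Φ.pnfe hm' hi' (by omega)) (Φ.pee hm hi') (Φ.pnfe hm hi' (by omega)))
    (s5 _ (Φ.pee hm' hi1) (Φ.pnfe hm' hi1 (by omega)) (Φ.pee hm hi1) (Φ.pnfe hm hi1 (by omega)))
    (s5 _ (Φ.pnef _ _ hm' hi' (by omega)) (Φ.pff hm' hi') (Φ.pnef _ _ hm hi' (by omega)) (Φ.pff hm hi'))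
    (s5 _ (Φ.pnef _ _ hm' hi1 (by omega)) (Φ.pff hm' hi1) (Φ.pnef _ _ hm hi1 (by omega)) (Φ.pff hm hi1))
  have hx : ∀ t : F, ∀ x, polar ⇑Q (Φ.e m) x = 0 → polar ⇑Q (Φ.f (m + 1)) x = 0 → act (Φ.rEl m t) x = x :=
    fun t x hx1 hx2 => Φ.act_em_fix (Φ.qe _ hm') (by rw [pl_smul_right, Φ.pnef _ _ hm' hm (by omega), mul_zero])
      hx1 (by rw [pl_smul_left, hx2, mul_zero])
  have hr : ∀ t, _ := fun t => commute_of_fix (Φ := Φ) (i := i) (g := Φ.rEl m t)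
    (hx t _ (Φ.pee hm' hi') (Φ.pnfe hm hi' (by omega))) (hx t _ (Φ.pee hm' hi1) (Φ.pnfe hm hi1 (by omega)))
    (hx t _ (Φ.pnef _ _ hm' hi' (by omega)) (Φ.pff hm hi')) (hx t _ (Φ.pnef _ _ hm' hi1 (by omega)) (Φ.pff hm hi1))
  exact Rc_sw_of_commute hm hv (fun t => (hr t).1) hs.1 (fun t t' => (hr t).2 t') hs.2
    (h.tail_fix hi1 hα (Φ.Rc_mem_M ρ hi1 hv α) (by omega) hm' (by omega) hm (by omega) 1)

/-- The first component controls all of them. -/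
theorem Small.ker_Rc (h : Φ.Small ρ) {i : ℕ} (hi : i + 1 < n) {v : V} (hv : v ∈ Φ.E0 ρ)
    (h0 : Φ.Rc ρ i 1 v = 0) {c : F} (hc : c ≠ 0) : ρ (Φ.sEl i (i + 1) c) v = v := by
  have hn := h.hn
  have hi' : i < n := by omega
  obtain ⟨hvE, hvT⟩ := (Φ.mem_E0 ρ).1 hv
  refine Φ.sEl_fixed_of_Rc ρ hi hvE (fun α hα => ?_) hc
  obtain ⟨j, hj, hji, hji'⟩ : ∃ j, j < n ∧ i ≠ j ∧ i + 1 ≠ j := by
    rcases eq_or_ne i 0 with hi0 | hi0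
    · exact ⟨2, by omega, by omega, by omega⟩
    · exact ⟨0, by omega, by omega, by omega⟩
  obtain ⟨g, hg⟩ : ∃ g, g = Φ.pairT i j α⁻¹ := ⟨_, rfl⟩
  obtain ⟨p1, -, -, -, p5⟩ := Φ.pairT_spec hi' hj hji (inv_ne_zero hα)
  rw [← hg] at p1 p5
  have hge : act g (Φ.e (i + 1)) = Φ.e (i + 1) :=
    p5 _ (Φ.pee hi' hi) (Φ.pnfe hi' hi (by omega)) (Φ.pee hj hi) (Φ.pnfe hj hi hji'.symm)
  have hgf : act g (Φ.f (i + 1)) = Φ.f (i + 1) :=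
    p5 _ (Φ.pnef _ _ hi' hi (by omega)) (Φ.pff hi' hi) (Φ.pnef _ _ hj hi hji'.symm) (Φ.pff hj hi)
  have hgT : g ∈ Φ.T0 ρ := hg ▸ h.pairT_mem_T0 hi' hj hji (inv_ne_zero hα)
  have hfix : ρ g (ρ (Φ.sEl i (i + 1) 1) v) = ρ (Φ.sEl i (i + 1) 1) v := by
    rw [← Module.End.mul_apply, ← map_mul,
      show g * Φ.sEl i (i + 1) 1 = Φ.sEl i (i + 1) 1 * ((Φ.sEl i (i + 1) 1)⁻¹ * g * Φ.sEl i (i + 1) 1) by group,
      map_mul, Module.End.mul_apply, hvT _ (Φ.conj_T0 ρ hi hgT)]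
  have key : Φ.Rc ρ i α v = ρ g (Φ.Rc ρ i 1 v) := by
    rw [Rc_apply, Rc_apply, map_sum]
    refine (Fintype.sum_equiv (Equiv.mulLeft₀ α⁻¹ (inv_ne_zero hα)) _ _ fun t => ?_).symm
    rw [Equiv.mulLeft₀_apply, map_smul, ← Module.End.mul_apply, ← map_mul, rEl, Φ.mul_em, p1, map_smul, hgf,
      Φ.em_smul_left, smul_smul, map_mul, Module.End.mul_apply, hfix, ← mul_assoc, mul_inv_cancel₀ hα, one_mul, ← rEl]
  rw [key, h0, map_zero]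

end Frame

end Cfsg.Agent.OrthMinusMinDegree
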