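import Cfsg.Agent.Lib.OrthMinusMinDegree.Frame
import Cfsg.Agent.Lib.SUMinDegree.Eigen
import Mathlib.NumberTheory.LegendreSymbol.Complex
import Cfsg.Agent.EqLemmas
/-
The filtration of a representation of Ω by unipotent radicals.
* E k: vectors fixed by the radicals at e_j, j < k; M k v: eigenspace in E k of the radical at e_k
* M_em, mapsTo_M, finrank_M_le: transport by elements fixing the flag
* sum_finrank_M: dim E k = Σ_v dim M k v;  M_zero;  pM: the components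
-/
set_option autoImplicit false
set_option linter.unusedSectionVars false

namespace Cfsg.Agent.OrthMinusMinDegree

open Cfsg Module
open Cfsg.Agent.Orth
open Cfsg.Agent.SUMinDegree (eig mem_eig proj isProj_proj sum_proj rep_injective)
open QuadraticMap (polar)

/-! ### Generalities on eigenspaces -/

section General

variable {G : Type*} [Group G] {V : Type*} [AddCommGroup V] [Module ℂ V] (ρ : Representation ℂ G V)
  {S : Type*} [AddCommGroup S] [Fintype S] (t : S → G) (ht : ∀ a b, t (a + b) = t a * t b)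
include ht

theorem proj_mem {E : Submodule ℂ V} (hE : ∀ c, ∀ v ∈ E, ρ (t c) v ∈ E) (ψ : AddChar S ℂ) {v : V}
    (hv : v ∈ E) : proj ρ t ψ v ∈ E ⊓ eig ρ t ψ := by
  refine ⟨?_, (isProj_proj ρ t ht ψ).map_mem v⟩
  simp only [proj, LinearMap.smul_apply, LinearMap.sum_apply]
  exact E.smul_mem _ (E.sum_mem fun c _ => E.smul_mem _ (hE c v hv))

theorem proj_rep {ψ : AddChar S ℂ} (c : S) (v : V) : proj ρ t ψ (ρ (t c) v) = ψ c • proj ρ t ψ v := by
  rw [← (mem_eig ρ t).1 ((isProj_proj ρ t ht ψ).map_mem v) c]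
  simp only [proj, LinearMap.smul_apply, LinearMap.sum_apply, map_smul, map_sum]
  congr 1
  refine Finset.sum_congr rfl fun d _ => ?_
  rw [← Module.End.mul_apply, ← map_mul, ← ht, add_comm, ht, map_mul, Module.End.mul_apply]

theorem proj_of_eig {ψ φ : AddChar S ℂ} {v : V} (hv : v ∈ eig ρ t φ) (hne : ψ ≠ φ) : proj ρ t ψ v = 0 := by
  obtain ⟨c, hc⟩ : ∃ c, ψ c ≠ φ c := not_forall.1 fun h => hne (DFunLike.ext _ _ h)
  have h := proj_rep ρ t ht (ψ := ψ) c v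
  rw [(mem_eig ρ t).1 hv c, map_smul] at h
  by_contra h0
  exact hc (smul_left_injective ℂ h0 h.symm)

omit ht in
/-- A bijection of the index group compatible with `g` carries projections to projections. -/
theorem proj_comp {g : G} (σ : S ≃ S) (hg : ∀ c, g * t c = t (σ c) * g) {ψ ψ' : AddChar S ℂ}
    (hψ : ∀ c, ψ' (-(σ c)) = ψ (-c)) (v : V) : proj ρ t ψ' (ρ g v) = ρ g (proj ρ t ψ v) := by
  simp only [proj, LinearMap.smul_apply, LinearMap.sum_apply, map_smul, map_sum]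
  congr 1
  refine (Fintype.sum_equiv σ _ _ fun c => ?_).symm
  rw [hψ, ← Module.End.mul_apply, ← Module.End.mul_apply (ρ (t (σ c))), ← map_mul, ← map_mul, hg]

theorem sum_finrank_inf [FiniteDimensional ℂ V] (E : Submodule ℂ V) (hE : ∀ c, ∀ v ∈ E, ρ (t c) v ∈ E) :
    ∑ ψ : AddChar S ℂ, finrank ℂ (E ⊓ eig ρ t ψ : Submodule ℂ V) = finrank ℂ E := by
  let ρ' : Representation ℂ (Multiplicative S) E :=
    { toFun := fun c => (ρ (t c.toAdd)).restrict (hE c.toAdd)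
      map_one' := by
        ext v
        show ρ (t 0) v.1 = v.1
        rw [SUMinDegree.map_zero' t ht, map_one, Module.End.one_apply]
      map_mul' := fun a b => by
        ext v
        show ρ (t (a.toAdd + b.toAdd)) v.1 = ρ (t a.toAdd) (ρ (t b.toAdd) v.1)
        rw [ht, map_mul, Module.End.mul_apply] }
  refine Eq.trans ?_ (SUMinDegree.sum_finrank_eig ρ' Multiplicative.ofAdd fun a b => rfl)
  refine Finset.sum_congr rfl fun ψ _ => ?_
  rw [← Submodule.finrank_map_subtype_eq E (eig ρ' Multiplicative.ofAdd ψ)]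
  refine congrArg (fun p : Submodule ℂ V => finrank ℂ p) (Submodule.ext fun v => ?_)
  rw [Submodule.mem_inf, Submodule.mem_map, mem_eig]
  constructor
  · rintro ⟨h1, h2⟩
    exact ⟨⟨v, h1⟩, (mem_eig ρ' _).2 fun c => Subtype.ext (h2 c), rfl⟩
  · rintro ⟨u, hu, rfl⟩
    exact ⟨u.2, fun c => congrArg Subtype.val ((mem_eig ρ' _).1 hu c)⟩

end General

variable {ι : Type} [Fintype ι] [DecidableEq ι] {F : Type*} [Field F] [Fintype F]

/-- A fixed non-trivial additive character. -/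
noncomputable def psi (F : Type*) [Field F] [Fintype F] : AddChar F ℂ := AddChar.FiniteField.primitiveChar_to_Complex F

theorem eq_zero_of_psi {a : F} (h : ∀ c, psi F (c * a) = 1) : a = 0 := by
  by_contra ha
  refine (AddChar.FiniteField.primitiveChar_to_Complex_isPrimitive (F := F)) (a := a) ha ?_
  ext c
  rw [AddChar.mulShift_apply, AddChar.one_apply, mul_comm]
  exact h c

variable {Q : QuadraticForm F (ι → F)} {n : ℕ} (Φ : Frame Q n)

namespace Frame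

theorem W_sep {k : ℕ} (hk : k < n) {d : ι → F} (hd : d ∈ Φ.W k)
    (h : ∀ x ∈ Φ.W k, polar ⇑Q d x = 0) : d = 0 := by
  refine Φ.nd.1 d fun y => ?_
  show polar ⇑Q d y = 0
  rw [Φ.decomp k y, pl_add_right, h _ (Φ.projW_mem hk y), add_zero, polar_sum]
  refine Finset.sum_eq_zero fun j hj => ?_
  have hj' : j ≤ k := by have := Finset.mem_range.1 hj; omega
  rw [pl_add_right, pl_smul_right, pl_smul_right, pl_comm Q d, W_e hd hj', pl_comm Q d, W_f hd hj']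
  ring

/-- The radical at `e_k`. -/
noncomputable def tk (k : ℕ) (x : Φ.W k) : OG Q := Φ.em (Φ.e k) x

theorem tk_add {k : ℕ} (hk : k < n) (x y : Φ.W k) : Φ.tk k (x + y) = Φ.tk k x * Φ.tk k y :=
  Φ.em_add (Φ.qe k hk) (W_e x.2 le_rfl) (W_e y.2 le_rfl)

/-- The character of the radical given by a vector. -/
noncomputable def chi (k : ℕ) (v : ι → F) : AddChar (Φ.W k) ℂ :=
  (psi F).compAddMonoidHom ((Q.polarBilin v).toAddMonoidHom.comp (Φ.W k).subtype.toAddMonoidHom)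

theorem chi_apply (k : ℕ) (v : ι → F) (x : Φ.W k) : Φ.chi k v x = psi F (polar ⇑Q v x) := rfl

theorem chi_injective {k : ℕ} (hk : k < n) : Function.Injective fun v : Φ.W k => Φ.chi k v := by
  intro v v' h
  refine Subtype.ext (sub_eq_zero.1 (Φ.W_sep hk (sub_mem v.2 v'.2) fun x hx => eq_zero_of_psi fun c => ?_))
  have h1 := DFunLike.congr_fun h ⟨c • x, Submodule.smul_mem _ c hx⟩
  simp only [chi_apply] at h1
  rw [pl_sub_left, mul_sub, ← pl_smul_right, ← pl_smul_right, sub_eq_add_neg, AddChar.map_add_eq_mul, h1,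
    ← AddChar.map_add_eq_mul, add_neg_cancel, AddChar.map_zero_eq_one]

theorem chi_bijective {k : ℕ} (hk : k < n) [Fintype (Φ.W k)] :
    Function.Bijective fun v : Φ.W k => Φ.chi k v := by
  rw [Fintype.bijective_iff_injective_and_card]
  exact ⟨Φ.chi_injective hk, AddChar.card_eq.symm⟩

variable {V : Type} [AddCommGroup V] [Module ℂ V] (ρ : Representation ℂ (OG Q) V)

/-- Vectors fixed by the radicals at `e_j`, `j < k`. -/
noncomputable def E (k : ℕ) : Submodule ℂ V :=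
  ⨅ (j : ℕ) (_ : j < k) (x : ι → F) (_ : ∀ i ≤ j, polar ⇑Q (Φ.e i) x = 0),
    LinearMap.ker (ρ (Φ.em (Φ.e j) x) - LinearMap.id)

theorem mem_E {k : ℕ} {v : V} : v ∈ Φ.E ρ k ↔ ∀ j < k, ∀ x : ι → F,
    (∀ i ≤ j, polar ⇑Q (Φ.e i) x = 0) → ρ (Φ.em (Φ.e j) x) v = v := by
  simp [E, sub_eq_zero]

theorem E_zero : Φ.E ρ 0 = ⊤ := eq_top_iff.2 fun v _ => (Φ.mem_E ρ).2 fun j hj => absurd hj (Nat.not_lt_zero j)

theorem E_anti {j k : ℕ} (h : j ≤ k) : Φ.E ρ k ≤ Φ.E ρ j := fun v hv =>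
  (Φ.mem_E ρ).2 fun i hi x hx => (Φ.mem_E ρ).1 hv i (lt_of_lt_of_le hi h) x hx

theorem mapsTo_E {k : ℕ} {g : OG Q} (hg : ∀ j < k, ∃ c : F, c ≠ 0 ∧ act g (Φ.e j) = c • Φ.e j) {v : V}
    (hv : v ∈ Φ.E ρ k) : ρ g v ∈ Φ.E ρ k := by
  rw [mem_E] at hv ⊢
  intro j hj x hx
  obtain ⟨c, hc, hcj⟩ := hg j hj
  have he : act g⁻¹ (Φ.e j) = c⁻¹ • Φ.e j := by
    conv_rhs => rw [← act_inv_act g (Φ.e j), hcj, map_smul, smul_smul, inv_mul_cancel₀ hc, one_smul]
  have h1 : Φ.em (Φ.e j) x * g = g * Φ.em (Φ.e j) (c⁻¹ • act g⁻¹ x) := by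
    rw [← Φ.em_smul_left, ← he, Φ.mul_em, act_act_inv, act_act_inv]
  rw [← Module.End.mul_apply, ← map_mul, h1, map_mul, Module.End.mul_apply, hv j hj _ fun i hi => ?_]
  obtain ⟨d, hd, hdi⟩ := hg i (by omega)
  rw [pl_smul_right, ← act_polar g, act_act_inv, hdi, pl_smul_left, hx i hi, mul_zero, mul_zero]

/-- An element fixing the first vectors preserves `E k`. -/
theorem mapsTo_E_fix {k : ℕ} {g : OG Q} (hg : ∀ j < k, act g (Φ.e j) = Φ.e j) {v : V}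
    (hv : v ∈ Φ.E ρ k) : ρ g v ∈ Φ.E ρ k :=
  Φ.mapsTo_E ρ (fun j hj => ⟨1, one_ne_zero, by rw [hg j hj, one_smul]⟩) hv

theorem tk_mem_E {k : ℕ} (hk : k < n) (x : Φ.W k) {v : V} (hv : v ∈ Φ.E ρ k) : ρ (Φ.tk k x) v ∈ Φ.E ρ k :=
  Φ.mapsTo_E_fix ρ (fun j hj => Φ.act_em_fix (Φ.qe k hk) (W_e x.2 le_rfl) (Φ.pee hk (by omega))
    (by rw [pl_comm]; exact W_e x.2 (by omega))) hv

/-- The eigenspace of the radical at `e_k` in `E k`. -/
noncomputable def M (k : ℕ) (v : ι → F) : Submodule ℂ V := Φ.E ρ k ⊓ eig ρ (Φ.tk k) (Φ.chi k v)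

theorem mem_M {k : ℕ} {v : ι → F} {u : V} : u ∈ Φ.M ρ k v ↔
    u ∈ Φ.E ρ k ∧ ∀ x ∈ Φ.W k, ρ (Φ.em (Φ.e k) x) u = psi F (polar ⇑Q v x) • u := by
  rw [M, Submodule.mem_inf, mem_eig]
  exact and_congr_right fun _ => ⟨fun h x hx => h ⟨x, hx⟩, fun h x => h x.1 x.2⟩

theorem M_em {k : ℕ} (hk : k < n) {v : ι → F} (hv : ∀ i ≤ k, polar ⇑Q v (Φ.e i) = 0) {u : V}
    (hu : u ∈ Φ.M ρ k v) {y : ι → F} (hy : ∀ i ≤ k, polar ⇑Q (Φ.e i) y = 0) :
    ρ (Φ.em (Φ.e k) y) u = psi F (polar ⇑Q v y) • u := by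
  obtain ⟨huE, huW⟩ := (Φ.mem_M ρ).1 hu
  let P : (ι → F) → Prop := fun y =>
    polar ⇑Q (Φ.e k) y = 0 ∧ ρ (Φ.em (Φ.e k) y) u = psi F (polar ⇑Q v y) • u
  have hadd : ∀ a b, P a → P b → P (a + b) := fun a b ha hb => ⟨by rw [pl_add_right, ha.1, hb.1, add_zero], by
    rw [Φ.em_add (Φ.qe k hk) ha.1 hb.1, map_mul, Module.End.mul_apply, hb.2, map_smul, ha.2, smul_smul,
      pl_add_right, AddChar.map_add_eq_mul, mul_comm]⟩
  have h0 : P 0 := ⟨pl_zero_right Q _, by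
    rw [Φ.em_zero, map_one, Module.End.one_apply, pl_zero_right, AddChar.map_zero_eq_one, one_smul]⟩
  suffices h : P y from h.2
  rw [Φ.decomp k y]
  refine hadd _ _ (Finset.sum_induction _ P hadd h0 fun j hj => ?_)
    ⟨W_e (Φ.projW_mem hk y) le_rfl, huW _ (Φ.projW_mem hk y)⟩
  have hj' : j ≤ k := by have := Finset.mem_range.1 hj; omega
  rw [hy j hj', zero_smul, add_zero]
  refine ⟨by rw [pl_smul_right, Φ.pee hk (by omega), mul_zero], ?_⟩
  rw [pl_smul_right, hv j hj', mul_zero, AddChar.map_zero_eq_one, one_smul]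
  rcases eq_or_lt_of_le hj' with rfl | hlt
  · have h1 := Φ.em_add_self (Φ.qe j hk) (pl_zero_right Q (Φ.e j)) (polar ⇑Q (Φ.f j) y)
    rw [zero_add] at h1
    rw [h1, Φ.em_zero, map_one, Module.End.one_apply]
  · rw [Φ.em_comm (Φ.qe k hk) (by rw [Q_smul, Φ.qe j (by omega), mul_zero])
      (by rw [pl_smul_right, Φ.pee hk (by omega), mul_zero]), Φ.em_smul_left]
    exact (Φ.mem_E ρ).1 huE j hlt _ fun i hi => by
      rw [pl_smul_right, pl_neg_right, Φ.pee (by omega) hk, neg_zero, mul_zero]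

/-- Transport. -/
theorem mapsTo_M {k : ℕ} (hk : k < n) {g : OG Q} {l : F}
    (hg : ∀ j < k, ∃ c : F, c ≠ 0 ∧ act g (Φ.e j) = c • Φ.e j) (hl : l ≠ 0)
    (hgk : act g (Φ.e k) = l • Φ.e k) {v v' : ι → F} (hv : ∀ i ≤ k, polar ⇑Q v (Φ.e i) = 0)
    (h : ∀ x ∈ Φ.W k, polar ⇑Q v' x = l⁻¹ * polar ⇑Q (act g v) x) {u : V} (hu : u ∈ Φ.M ρ k v) :
    ρ g u ∈ Φ.M ρ k v' := by
  refine (Φ.mem_M ρ).2 ⟨Φ.mapsTo_E ρ hg hu.1, fun x hx => ?_⟩
  have he : act g⁻¹ (Φ.e k) = l⁻¹ • Φ.e k := by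
    conv_rhs => rw [← act_inv_act g (Φ.e k), hgk, map_smul, smul_smul, inv_mul_cancel₀ hl, one_smul]
  have h1 : Φ.em (Φ.e k) x * g = g * Φ.em (Φ.e k) (l⁻¹ • act g⁻¹ x) := by
    rw [← Φ.em_smul_left, ← he, Φ.mul_em, act_act_inv, act_act_inv]
  rw [← Module.End.mul_apply, ← map_mul, h1, map_mul, Module.End.mul_apply, Φ.M_em ρ hk hv hu ?_, map_smul]
  · rw [pl_smul_right, h x hx, ← act_polar g v, act_act_inv]
  · intro i hi
    obtain ⟨c, -, hci⟩ : ∃ c : F, c ≠ 0 ∧ act g (Φ.e i) = c • Φ.e i := by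
      rcases eq_or_lt_of_le hi with rfl | hlt
      · exact ⟨l, hl, hgk⟩
      · exact hg i hlt
    rw [pl_smul_right, ← act_polar g, act_act_inv, hci, pl_smul_left, W_e hx hi, mul_zero, mul_zero]

theorem finrank_M_le [FiniteDimensional ℂ V] {k : ℕ} (hk : k < n) {g : OG Q} {l : F} (hl : l ≠ 0)
    (hg : ∀ j < k, ∃ c : F, c ≠ 0 ∧ act g (Φ.e j) = c • Φ.e j)
    (hgk : act g (Φ.e k) = l • Φ.e k) {v v' : ι → F} (hv : ∀ i ≤ k, polar ⇑Q v (Φ.e i) = 0)
    (h : v' = l⁻¹ • act g v) :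
    finrank ℂ (Φ.M ρ k v) ≤ finrank ℂ (Φ.M ρ k v') :=
  LinearMap.finrank_le_finrank_of_injective
    (f := (ρ g).restrict fun _ hu =>
      Φ.mapsTo_M ρ hk hg hl hgk hv (fun x _ => by rw [h, pl_smul_left]) hu)
    fun _ _ hab => Subtype.ext (rep_injective ρ g (congrArg Subtype.val hab))

theorem finrank_M_diag [FiniteDimensional ℂ V] {k : ℕ} (hk : k < n) {g : OG Q} {l : F} (hl : l ≠ 0)
    (hg : Φ.Diag g k) (hgk : act g (Φ.e k) = l • Φ.e k) {v v' : ι → F} (hv : v ∈ Φ.W k)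
    (h : v' = l⁻¹ • act g v) :
    finrank ℂ (Φ.M ρ k v) = finrank ℂ (Φ.M ρ k v') := by
  have hv' : v' ∈ Φ.W k := h ▸ Submodule.smul_mem _ _ (hg.map_W hv)
  refine le_antisymm (Φ.finrank_M_le ρ hk hl (fun j hj => (hg j hj.le).1) hgk
    (fun i hi => by rw [pl_comm]; exact W_e hv hi) h) ?_
  refine Φ.finrank_M_le ρ hk (inv_ne_zero hl) (fun j hj => (hg.inv j hj.le).1) ?_
    (fun i hi => by rw [pl_comm]; exact W_e hv' hi) ?_
  · conv_rhs => rw [← act_inv_act g (Φ.e k), hgk, map_smul, smul_smul, inv_mul_cancel₀ hl, one_smul]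
  · rw [h, map_smul, act_inv_act, smul_smul, inv_mul_cancel₀ (inv_ne_zero hl), one_smul]

theorem M_zero {k : ℕ} (hk : k < n) : Φ.M ρ k 0 = Φ.E ρ (k + 1) := by
  refine le_antisymm (fun u hu => (Φ.mem_E ρ).2 fun j hj x hx => ?_) fun u hu =>
    (Φ.mem_M ρ).2 ⟨Φ.E_anti ρ (Nat.le_succ k) hu, fun x hx => ?_⟩
  · rcases eq_or_lt_of_le (Nat.lt_succ_iff.1 hj) with rfl | hlt
    · rw [Φ.M_em ρ hk (fun i _ => pl_zero_left Q _) hu hx, pl_zero_left, AddChar.map_zero_eq_one, one_smul]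
    · exact (Φ.mem_E ρ).1 hu.1 j hlt x hx
  · rw [(Φ.mem_E ρ).1 hu k (Nat.lt_succ_self k) x fun i hi => W_e hx hi, pl_zero_left,
      AddChar.map_zero_eq_one, one_smul]

/-- The projection to `M k v`. -/
noncomputable def pM (k : ℕ) [Fintype (Φ.W k)] (v : ι → F) : V →ₗ[ℂ] V := proj ρ (Φ.tk k) (Φ.chi k v)

theorem pM_mem {k : ℕ} (hk : k < n) [Fintype (Φ.W k)] (v : ι → F) {u : V} (hu : u ∈ Φ.E ρ k) :
    Φ.pM ρ k v u ∈ Φ.M ρ k v :=
  proj_mem ρ _ (Φ.tk_add hk) (fun c _ hw => Φ.tk_mem_E ρ hk c hw) _ hu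

theorem sum_pM {k : ℕ} (hk : k < n) [Fintype (Φ.W k)] (u : V) : ∑ v : Φ.W k, Φ.pM ρ k v u = u := by
  classical
  refine Eq.trans ?_ (sum_proj ρ (Φ.tk k) (Φ.tk_add hk) u)
  exact Fintype.sum_bijective _ (Φ.chi_bijective hk) _ _ fun v => rfl

theorem sum_finrank_M [FiniteDimensional ℂ V] {k : ℕ} (hk : k < n) [Fintype (Φ.W k)] :
    ∑ v : Φ.W k, finrank ℂ (Φ.M ρ k v) = finrank ℂ (Φ.E ρ k) := by
  classical
  refine Eq.trans ?_ (sum_finrank_inf ρ (Φ.tk k) (Φ.tk_add hk) (Φ.E ρ k)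
    fun c _ hw => Φ.tk_mem_E ρ hk c hw)
  exact Fintype.sum_bijective _ (Φ.chi_bijective hk) _ _ fun v => rfl

theorem pM_self {k : ℕ} (hk : k < n) [Fintype (Φ.W k)] {v : ι → F} {u : V} (hu : u ∈ Φ.M ρ k v) :
    Φ.pM ρ k v u = u :=
  (isProj_proj ρ (Φ.tk k) (Φ.tk_add hk) _).map_id u hu.2

theorem pM_other {k : ℕ} (hk : k < n) [Fintype (Φ.W k)] {v v' : Φ.W k} (hne : v ≠ v') {u : V}
    (hu : u ∈ Φ.M ρ k v') : Φ.pM ρ k v u = 0 :=
  proj_of_eig ρ _ (Φ.tk_add hk) hu.2 fun h => hne (Φ.chi_injective hk h)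

/-- An eigenvector of an element of the radical has components only at the matching characters. -/
theorem pM_eq_zero {k : ℕ} (hk : k < n) [Fintype (Φ.W k)] {v : ι → F} {x : Φ.W k} {u : V} {c : ℂ}
    (hu : ρ (Φ.tk k x) u = c • u) (hc : psi F (polar ⇑Q v x) ≠ c) : Φ.pM ρ k v u = 0 := by
  have h := proj_rep ρ _ (Φ.tk_add hk) (ψ := Φ.chi k v) x u
  rw [hu, map_smul] at h
  by_contra h0
  exact hc (smul_left_injective ℂ h0 h.symm)

/-- An element fixing `e_k` and the flag permutes the components. -/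
theorem pM_comp {k : ℕ} (hk : k < n) [Fintype (Φ.W k)] {g : OG Q} (hg : Φ.Diag g k)
    (hgk : act g (Φ.e k) = Φ.e k) (v : ι → F) (u : V) :
    Φ.pM ρ k (act g v) (ρ g u) = ρ g (Φ.pM ρ k v u) := by
  refine proj_comp ρ (Φ.tk k) ⟨fun c => ⟨act g c, hg.map_W c.2⟩, fun c => ⟨act g⁻¹ c, hg.inv.map_W c.2⟩,
    fun c => Subtype.ext (act_inv_act g c), fun c => Subtype.ext (act_act_inv g c)⟩ (fun c => ?_) (fun c => ?_) u
  · show g * Φ.em _ _ = Φ.em _ _ * g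
    rw [Φ.mul_em, hgk]
    rfl
  · simp only [chi_apply, NegMemClass.coe_neg, Equiv.coe_fn_mk, pl_neg_right, act_polar]

end Frame

end Cfsg.Agent.OrthMinusMinDegree
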