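import Cfsg.Agent.Lib.OrthMinusMinDegree.Nonvanish
import Cfsg.Agent.Lib.OrthMinusMinDegree.Swap
import Cfsg.Agent.EqLemmas
/-
The part of a swapped vector moved by the root group of the swap.
* Rc i α: the α-component;  Rc_mem_M;  sEl_fixed_of_Rc
* tail_fix: roots beyond i+1 fix the components
-/
set_option autoImplicit false
set_option linter.unusedSectionVars false

namespace Cfsg.Agent.OrthMinusMinDegree

open Cfsg Module
open Cfsg.Agent.Orth
open Cfsg.Agent.SUMinDegree (rep_injective)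
open QuadraticMap (polar)

variable {ι : Type} [Fintype ι] [DecidableEq ι] {F : Type*} [Field F] [Fintype F]
variable {Q : QuadraticForm F (ι → F)} {n : ℕ} (Φ : Frame Q n)
variable {V : Type} [AddCommGroup V] [Module ℂ V] [FiniteDimensional ℂ V] (ρ : Representation ℂ (OG Q) V)

theorem sum_psi_mul (b : F) [Decidable (b = 0)] :
    ∑ t : F, psi F (t * b) = if b = 0 then (Fintype.card F : ℂ) else 0 := by
  classical
  rw [psi, AddChar.sum_mulShift b (AddChar.FiniteField.primitiveChar_to_Complex_isPrimitive F)]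
  split_ifs <;> simp

namespace Frame

/-- The component of the swapped vector at the character `α` of the root group. -/
noncomputable def Rc (i : ℕ) (α : F) : V →ₗ[ℂ] V :=
  ∑ t : F, psi F (-(α * t)) • (ρ (Φ.rEl i t) ∘ₗ ρ (Φ.sEl i (i + 1) 1))

theorem Rc_apply (i : ℕ) (α : F) (v : V) :
    Φ.Rc ρ i α v = ∑ t : F, psi F (-(α * t)) • ρ (Φ.rEl i t) (ρ (Φ.sEl i (i + 1) 1) v) := by
  simp [Rc, LinearMap.sum_apply]

theorem Rc_zero (i : ℕ) (v : V) : Φ.Rc ρ i 0 v = Φ.swapVec ρ i v := by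
  rw [Rc_apply, swapVec_apply]
  exact Finset.sum_congr rfl fun t _ => by rw [zero_mul, neg_zero, AddChar.map_zero_eq_one, one_smul]

theorem sum_Rc {i : ℕ} (v : V) :
    ∑ α : F, Φ.Rc ρ i α v = (Fintype.card F : ℂ) • ρ (Φ.sEl i (i + 1) 1) v := by
  classical
  simp only [Rc_apply]
  rw [Finset.sum_comm, Finset.sum_eq_single (0 : F)]
  · rw [Finset.sum_congr rfl fun α _ => by rw [mul_zero, neg_zero, AddChar.map_zero_eq_one, one_smul],
      Finset.sum_const, Finset.card_univ, Nat.cast_smul_eq_nsmul, rEl, zero_smul, Φ.em_zero, map_one,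
      Module.End.one_apply]
  · intro t _ ht
    rw [← Finset.sum_smul, Finset.sum_congr rfl fun α _ => show psi F (-(α * t)) = psi F (α * -t) by rw [mul_neg],
      sum_psi_mul, if_neg (neg_ne_zero.2 ht), zero_smul]
  · exact fun h => absurd (Finset.mem_univ _) h

/-- The radical elements at `e_i` fixing the swapped vector. -/
theorem swapped_fix {i : ℕ} (hi : i + 1 < n) {v : V} (hv : v ∈ Φ.E ρ n) {x : ι → F}
    (hx : ∀ l ≤ i + 1, polar ⇑Q (Φ.e l) x = 0) :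
    ρ (Φ.em (Φ.e i) x) (ρ (Φ.sEl i (i + 1) 1) v) = ρ (Φ.sEl i (i + 1) 1) v := by
  have hi' : i < n := by omega
  obtain ⟨s1, s2, -, -, s5⟩ := Φ.sEl_spec hi' hi (by omega) (one_ne_zero (α := F))
  simp only [inv_one, one_smul] at s1 s2
  obtain ⟨s, hs⟩ : ∃ s, s = Φ.sEl i (i + 1) 1 := ⟨_, rfl⟩
  rw [← hs] at s1 s2 s5 ⊢
  have h1 : Φ.em (Φ.e i) x * s = s * Φ.em (Φ.e (i + 1)) (-act s⁻¹ x) := by
    rw [Φ.mul_em, s2, map_neg, act_act_inv, Φ.em_smul_left, neg_smul, one_smul, neg_neg]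
  rw [← Module.End.mul_apply, ← map_mul, h1, map_mul, Module.End.mul_apply,
    (Φ.mem_E ρ).1 hv (i + 1) hi _ fun l hl => ?_]
  rw [pl_neg_right, neg_eq_zero, ← act_polar s, act_act_inv]
  rcases eq_or_ne l i with rfl | hli
  · rw [s1, hx (l + 1) le_rfl]
  rcases eq_or_ne l (i + 1) with rfl | hlj
  · rw [s2, pl_smul_left, hx i (by omega), mul_zero]
  · rw [s5 _ (Φ.pee hi' (by omega)) (Φ.pnfe hi' (by omega) hli.symm) (Φ.pee hi (by omega))
      (Φ.pnfe hi (by omega) hlj.symm), hx l hl]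

theorem Rc_mem_M {i : ℕ} (hi : i + 1 < n) {v : V} (hv : v ∈ Φ.E ρ n) (α : F) :
    Φ.Rc ρ i α v ∈ Φ.M ρ i (α • Φ.e (i + 1)) := by
  have hi' : i < n := by omega
  have hef : polar ⇑Q (Φ.e i) (Φ.f (i + 1)) = 0 := Φ.pnef i (i + 1) hi' hi (by omega)
  obtain ⟨-, -, -, -, s5⟩ := Φ.sEl_spec hi' hi (by omega) (one_ne_zero (α := F))
  rw [Rc_apply]
  refine (Φ.mem_M ρ).2 ⟨Submodule.sum_mem _ fun t _ => Submodule.smul_mem _ _ ?_, fun x hx => ?_⟩
  · exact Φ.mapsTo_E_fix ρ (fun l hl => Φ.rEl_fix_W hi t (by omega) (by omega)) (Φ.mapsTo_E_fix ρ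
      (fun l hl => s5 _ (Φ.pee hi' (by omega)) (Φ.pnfe hi' (by omega) (by omega)) (Φ.pee hi (by omega))
        (Φ.pnfe hi (by omega) (by omega))) (Φ.E_anti ρ (by omega) hv))
  obtain ⟨β, hβ⟩ : ∃ β, β = polar ⇑Q (Φ.e (i + 1)) x := ⟨_, rfl⟩
  have hx' : ∀ l ≤ i + 1, polar ⇑Q (Φ.e l) (x - β • Φ.f (i + 1)) = 0 := fun l hl => by
    rw [pl_sub_right, pl_smul_right]
    rcases eq_or_ne l (i + 1) with rfl | hne
    · rw [Φ.pef _ hi, hβ, mul_one, sub_self]
    · rw [W_e hx (by omega), Φ.pnef l (i + 1) (by omega) hi hne, mul_zero, sub_zero]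
  rw [map_sum, Finset.smul_sum, pl_smul_left, ← hβ]
  refine Fintype.sum_equiv (Equiv.addRight β) _ _ fun t => ?_
  have h1 : Φ.em (Φ.e i) x * Φ.rEl i t = Φ.rEl i (t + β) * Φ.em (Φ.e i) (x - β • Φ.f (i + 1)) := by
    rw [rEl, rEl, ← Φ.em_add (Φ.qe i hi') (W_e hx le_rfl) (by rw [pl_smul_right, hef, mul_zero]),
      ← Φ.em_add (Φ.qe i hi') (by rw [pl_smul_right, hef, mul_zero]) (hx' i (by omega))]
    congr 1
    module
  rw [Equiv.coe_addRight, map_smul, ← Module.End.mul_apply, ← map_mul, h1, map_mul, Module.End.mul_apply,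
    Φ.swapped_fix ρ hi hv hx', smul_smul, ← AddChar.map_add_eq_mul]
  congr 2
  ring

/-- Without components the swapped pair fixes the vector. -/
theorem sEl_fixed_of_Rc {i : ℕ} (hi : i + 1 < n) {v : V} (hv : v ∈ Φ.E ρ n)
    (h0 : ∀ α : F, α ≠ 0 → Φ.Rc ρ i α v = 0) {c : F} (hc : c ≠ 0) : ρ (Φ.sEl i (i + 1) c) v = v := by
  classical
  have hi' : i < n := by omega
  have h1 := Φ.sum_Rc ρ (i := i) v
  rw [Finset.sum_eq_single (0 : F) (fun α _ hα => h0 α hα) (fun h => absurd (Finset.mem_univ _) h), Rc_zero] at h1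
  obtain ⟨s1, -, -, s4, -⟩ := Φ.sEl_spec hi' hi (by omega) (one_ne_zero (α := F))
  obtain ⟨s, hs⟩ : ∃ s, s = Φ.sEl i (i + 1) 1 := ⟨_, rfl⟩
  rw [← hs] at h1
  rw [← hs, inv_one] at s1 s4
  have hsv : ρ s v ∈ Φ.E ρ n := by
    have h2 : (Fintype.card F : ℂ) • ρ s v ∈ Φ.E ρ n := h1 ▸ Φ.swapVec_mem ρ hi hv
    exact (Submodule.smul_mem_iff _ (Nat.cast_ne_zero.2 Fintype.card_ne_zero)).1 h2
  obtain ⟨u, hu⟩ : ∃ u, u = ρ s⁻¹ v := ⟨_, rfl⟩
  have huE : u ∈ Φ.E ρ n := by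
    have h2 := Φ.dg_mapsTo ρ (inv_mem (hs ▸ Φ.sEl_sq_mem hi)) hsv
    rw [← Module.End.mul_apply, ← map_mul, mul_inv_rev, inv_mul_cancel_right] at h2
    rwa [hu]
  have hr : ∀ a : F, ρ (Φ.em (Φ.e (i + 1)) (a • Φ.f i)) v = v := fun a => by
    have h3 : Φ.em (Φ.e (i + 1)) (a • Φ.f i) = s * Φ.rEl i (-a) * s⁻¹ := by
      rw [rEl, Φ.mul_em, mul_inv_cancel_right, s1, map_smul, s4, one_smul, neg_smul, neg_smul,
        one_smul, smul_neg, neg_neg]
    rw [h3, map_mul, map_mul, Module.End.mul_apply, Module.End.mul_apply, ← hu, Φ.rEl_fixed ρ hi huE, hu,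
      ← Module.End.mul_apply, ← map_mul, mul_inv_cancel, map_one, Module.End.one_apply]
  have h2 : ρ (Φ.em (Φ.e i) (c • Φ.f (i + 1))) v = v := Φ.rEl_fixed ρ hi hv c
  rw [sEl, map_mul, map_mul, Module.End.mul_apply, Module.End.mul_apply, h2, hr, h2]

theorem pairT_fixed {i j : ℕ} {u : V} (h : ∀ c : F, c ≠ 0 → ρ (Φ.sEl i j c) u = u) {x : F} (hx : x ≠ 0) :
    ρ (Φ.pairT i j x) u = u := by
  refine rep_injective ρ (Φ.sEl i j x) ?_
  rw [← Module.End.mul_apply, ← map_mul, pairT, mul_inv_cancel_left, h _ one_ne_zero, h _ hx]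

variable {Φ ρ}

/-- The roots beyond `i + 1` fix the components. -/
theorem Small.tail_fix (h : Φ.Small ρ) {i : ℕ} (hi : i + 1 < n) {α : F} (hα : α ≠ 0) {u : V}
    (hu : u ∈ Φ.M ρ i (α • Φ.e (i + 1))) {j l : ℕ} (hj : i + 1 < j) (hjn : j < n) (hl : i + 1 < l) (hln : l < n)
    (hjl : j ≠ l) (r : F) : ρ (Φ.sEl j l r) u = u := by
  have hi' : i < n := by omega
  have hw : α • Φ.e (i + 1) ∈ Φ.W i := Submodule.smul_mem _ _ (e_mem_W hi (Nat.lt_succ_self i))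
  have hroot : ∀ a b : ℕ, i + 1 < a → a < n → i + 1 < b → b < n → a ≠ b → ∀ r : F,
      ρ (Φ.em (Φ.e a) (r • Φ.f b)) u = u := fun a b ha han hb hbn hab r =>
    Φ.long_fix ρ hi' (fun m hm => by rw [pl_comm]; exact W_e hw hm)
      (fun z hz => by rw [pl_smul_right, pl_comm, Φ.Cr_e hz hi, mul_zero])
      (h.thin hi' hw (smul_ne_zero hα (Φ.hpair hi).ne_zero)).1 hu
      (Φ.qe a han) (Φ.qf b hbn) (Φ.pnef a b han hbn hab) (fun z hz => Φ.Cr_e hz han) (fun z hz => Φ.Cr_f hz hbn)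
      (fun m hm => Φ.pee han (by omega)) (fun m hm => Φ.pnfe hbn (by omega) (by omega))
      (by rw [pl_smul_right, Φ.pee han hi, mul_zero]) (by rw [pl_smul_right, Φ.pnfe hbn hi (by omega), mul_zero]) r
  rw [sEl, map_mul, map_mul, Module.End.mul_apply, Module.End.mul_apply, hroot j l hj hjn hl hln hjl,
    hroot l j hl hln hj hjn hjl.symm, hroot j l hj hjn hl hln hjl]

end Frame

end Cfsg.Agent.OrthMinusMinDegree
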