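import Cfsg.Agent.Lib.OrthMinusMinDegree.Final
import Cfsg.Agent.EqLemmas
/-
Three pairs: the two nodes cannot share their line.
* Rl; ip_Rl, ip_sEl_node;  ip_E1;  Gg, dirv, ip_transl, gram_x;  frame_bound
* tr_pos: q² translates of E 1 are independent;  Small.three_dep
-/
set_option autoImplicit false
set_option linter.unusedSectionVars false

namespace Cfsg.Agent.OrthMinusMinDegree

open Cfsg Module
open Cfsg.Agent.Orth
open Cfsg.Agent.SUMinDegree (rep_injective)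
open Cfsg.Agent.OrthMinDegree (Ip Ip_rep Ip_conj Ip_sum_left Ip_smul_left Ip_sub_left Ip_sub_right Ip_zero_left
  Ip_self_eq_zero)
open QuadraticMap (polar)
open scoped ComplexConjugate

section Inner

variable {G : Type*} [Group G] [Fintype G] {V : Type*} [AddCommGroup V] [Module ℂ V] [FiniteDimensional ℂ V]
  (ρ : Representation ℂ G V)

theorem Ip_smul_right (c : ℂ) (u w : V) : Ip ρ u (c • w) = conj c * Ip ρ u w := by
  rw [← Ip_conj ρ (c • w) u, Ip_smul_left, map_mul, Ip_conj]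

theorem Ip_sum_right {α : Type*} (s : Finset α) (f : α → V) (u : V) :
    Ip ρ u (∑ a ∈ s, f a) = ∑ a ∈ s, Ip ρ u (f a) := by
  rw [← Ip_conj ρ (∑ a ∈ s, f a) u, Ip_sum_left, map_sum]
  exact Finset.sum_congr rfl fun a _ => Ip_conj ρ _ _

/-- The square of the length. -/
noncomputable def nn (u : V) : ℝ := (Ip ρ u u).re

theorem Ip_self (u : V) : Ip ρ u u = (nn ρ u : ℂ) := (Complex.conj_eq_iff_re.1 (Ip_conj ρ u u)).symm

theorem nn_nonneg (u : V) : 0 ≤ nn ρ u := by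
  simp only [nn, Ip, Complex.mul_conj, Complex.re_sum, Complex.ofReal_re]
  exact Finset.sum_nonneg fun g _ => Finset.sum_nonneg fun i _ => Complex.normSq_nonneg _

theorem nn_eq_zero {u : V} (h : nn ρ u = 0) : u = 0 :=
  Ip_self_eq_zero ρ (by rw [Ip_self, h, Complex.ofReal_zero])

theorem nn_pos {u : V} (h : u ≠ 0) : 0 < nn ρ u :=
  (nn_nonneg ρ u).lt_of_ne fun h0 => h (nn_eq_zero ρ h0.symm)

/-- Vectors with different eigenvalues are orthogonal. -/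
theorem Ip_eq_zero_of_eig {g : G} {u w : V} {c : ℂ} (hu : ρ g u = c • u) (hw : ρ g w = w) (hc : c ≠ 1) :
    Ip ρ u w = 0 := by
  have h1 := Ip_rep ρ g u w
  rw [hu, hw, Ip_smul_left] at h1
  by_contra h0
  exact hc ((mul_eq_right₀ h0).1 h1)

/-- A system of unit vectors with mutual products `-1/q`, `q+1` of them, is nearly tight. -/
theorem frame_bound {J : Type*} [Fintype J] [DecidableEq J] (x : J → V) {q N : ℝ} (hq : 0 < q) (hN : 0 < N)
    (hd : ∀ j, Ip ρ (x j) (x j) = N) (ho : ∀ i j, i ≠ j → (q : ℂ) * Ip ρ (x i) (x j) = -N) (u : V) :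
    q * ∑ j, Complex.normSq (Ip ρ u (x j)) ≤ (q + 1) * N * nn ρ u := by
  obtain ⟨A, hA⟩ : ∃ A : J → ℂ, A = fun j => Ip ρ u (x j) := ⟨_, rfl⟩
  obtain ⟨S, hS⟩ : ∃ S : ℝ, S = ∑ j, Complex.normSq (A j) := ⟨_, rfl⟩
  obtain ⟨y, hy⟩ : ∃ y, y = ∑ j, A j • x j := ⟨_, rfl⟩
  have hSc : ∑ j, A j * conj (A j) = (S : ℂ) := by
    rw [hS, Complex.ofReal_sum]
    exact Finset.sum_congr rfl fun j _ => Complex.mul_conj _
  have hyu : Ip ρ y u = S := by
    rw [hy, Ip_sum_left, ← hSc]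
    refine Finset.sum_congr rfl fun j _ => ?_
    rw [Ip_smul_left, hA, Ip_conj]
  have huy : Ip ρ u y = S := by rw [← Ip_conj ρ y u, hyu, Complex.conj_ofReal]
  have hxy : ∀ m, (q : ℂ) * Ip ρ y (x m) = (q + 1) * N * A m - N * ∑ j, A j := fun m => by
    rw [hy, Ip_sum_left, Finset.mul_sum, Finset.mul_sum]
    have h1 : ∀ j, (q : ℂ) * Ip ρ (A j • x j) (x m) =
        (if j = m then ((q : ℂ) + 1) * N * A j else 0) - N * A j := fun j => by
      rw [Ip_smul_left]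
      split_ifs with hjm
      · subst hjm; rw [hd]; ring
      · linear_combination A j * ho j m hjm
    rw [Finset.sum_congr rfl fun j _ => h1 j, Finset.sum_sub_distrib, Finset.sum_ite_eq' Finset.univ m,
      if_pos (Finset.mem_univ m)]
  have hyy : (q : ℂ) * Ip ρ y y = (q + 1) * N * S - N * Complex.normSq (∑ j, A j) := by
    conv_lhs => enter [2, 3]; rw [hy]
    rw [Ip_sum_right, Finset.mul_sum, Finset.sum_congr rfl fun m _ => show
        (q : ℂ) * Ip ρ y (A m • x m) = (q + 1) * N * (A m * conj (A m)) - N * (∑ j, A j) * conj (A m) by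
      rw [Ip_smul_right]; linear_combination conj (A m) * hxy m,
      Finset.sum_sub_distrib, ← Finset.mul_sum, hSc, ← Finset.mul_sum, ← map_sum, mul_assoc (N : ℂ), Complex.mul_conj]
  have hY : q * nn ρ y = (q + 1) * N * S - N * Complex.normSq (∑ j, A j) := by
    have h1 := congrArg Complex.re hyy
    simpa [Ip_self, Complex.re_ofReal_mul] using h1
  have h0 := nn_nonneg ρ (((((q + 1) * N : ℝ)) : ℂ) • u - (q : ℂ) • y)
  have hw : nn ρ (((((q + 1) * N : ℝ)) : ℂ) • u - (q : ℂ) • y) =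
      ((q + 1) * N) * ((q + 1) * N) * nn ρ u - 2 * ((q + 1) * N) * q * S + q * (q * nn ρ y) := by
    rw [nn, Ip_sub_left, Ip_sub_right, Ip_sub_right]
    simp only [Ip_smul_left, Ip_smul_right, Complex.conj_ofReal, hyu, huy]
    rw [Ip_self, Ip_self]
    simp only [← Complex.ofReal_mul, ← Complex.ofReal_sub, Complex.ofReal_re]
    ring
  rw [hw, hY] at h0
  have hr : 0 < (q + 1) * N := by positivity
  have h2 : 0 ≤ q * (N * Complex.normSq (∑ j, A j)) := mul_nonneg hq.le (mul_nonneg hN.le (Complex.normSq_nonneg _))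
  have hAe : ∑ j, Complex.normSq (Ip ρ u (x j)) = S := by rw [hS, hA]
  rw [hAe]
  exact le_of_mul_le_mul_left (a := (q + 1) * N) (by nlinarith) hr

end Inner

variable {ι : Type} [Fintype ι] [DecidableEq ι] {F : Type*} [Field F] [Fintype F]
variable {Q : QuadraticForm F (ι → F)} {n : ℕ} (Φ : Frame Q n)
variable {V : Type} [AddCommGroup V] [Module ℂ V] [FiniteDimensional ℂ V] (ρ : Representation ℂ (OG Q) V)

namespace Frame

/-- The root group opposite to that of `rEl i`. -/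
noncomputable def Rl (i : ℕ) (b : F) : OG Q := Φ.em (Φ.e (i + 1)) (b • Φ.f i)

theorem Rl_add {i : ℕ} (hi : i + 1 < n) (a b : F) : Φ.Rl i (a + b) = Φ.Rl i a * Φ.Rl i b := by
  have h : ∀ c : F, polar ⇑Q (Φ.e (i + 1)) (c • Φ.f i) = 0 := fun c => by
    rw [pl_smul_right, Φ.pnef _ _ hi (by omega) (by omega), mul_zero]
  rw [Rl, Rl, Rl, add_smul, Φ.em_add (Φ.qe _ hi) (h a) (h b)]

theorem Rl_swap {i : ℕ} (hi : i + 1 < n) (a : F) :
    Φ.Rl i a * Φ.sEl i (i + 1) 1 = Φ.sEl i (i + 1) 1 * Φ.rEl i (-a) := by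
  obtain ⟨s1, -, -, s4, -⟩ := Φ.sEl_spec (show i < n by omega) hi (by omega) (one_ne_zero (α := F))
  rw [inv_one] at s1 s4
  rw [rEl, Φ.mul_em (Φ.sEl i (i + 1) 1), s1, map_smul, s4, one_smul, Rl, neg_smul, neg_smul, one_smul, smul_neg,
    neg_neg]

theorem rEl_E {i : ℕ} (hi : i + 1 < n) {u : V} (hu : u ∈ Φ.E ρ (i + 1)) (a : F) : ρ (Φ.rEl i a) u = u :=
  (Φ.mem_E ρ).1 hu i (Nat.lt_succ_self i) _ fun l hl => by
    rw [pl_smul_right, Φ.pnef l (i + 1) (by omega) hi (by omega), mul_zero]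

variable [Fintype (OG Q)]

theorem ip_Rl {i : ℕ} (hi : i + 1 < n) {u u' : V} (hu : ∀ a, ρ (Φ.rEl i a) u = u)
    (hu' : ∀ a, ρ (Φ.rEl i a) u' = u') {b : F} (hb : b ≠ 0) :
    Ip ρ (ρ (Φ.Rl i b) u) u' = Ip ρ (ρ (Φ.sEl i (i + 1) (-b⁻¹)) u) u' := by
  obtain ⟨c, hc⟩ : ∃ c, c = -b⁻¹ := ⟨_, rfl⟩
  have h00 : Φ.rEl i 0 = 1 := by rw [rEl, zero_smul, Φ.em_zero]
  have hcb : -c⁻¹ = b := by rw [hc, inv_neg, inv_inv, neg_neg]
  have hsplit : Φ.sEl i (i + 1) c = Φ.rEl i c * Φ.Rl i b * Φ.rEl i c := by rw [sEl, rEl, Rl, hcb]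
  rw [← hc, hsplit, map_mul, map_mul, Module.End.mul_apply, Module.End.mul_apply, hu]
  conv_rhs => rw [← hu' c, Ip_rep]

variable {Φ ρ}

/-- The node takes the value `-1/q` on the swaps. -/
theorem Small.ip_sEl_node (h : Φ.Small ρ) {i : ℕ} (hi : i + 1 < n) {x u' : V} (hx : x ∈ Φ.E0 ρ)
    (hxx : Φ.pr ρ i x = x) (hu' : ∀ a, ρ (Φ.rEl i a) u' = u') {c : F} (hc : c ≠ 0) :
    (Fintype.card F : ℂ) * Ip ρ (ρ (Φ.sEl i (i + 1) c) x) u' = -Ip ρ x u' := by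
  have hsw : Φ.swapVec ρ i x = -x := by rw [Φ.sw_eq, hxx]; module
  have hsel : Φ.sEl i (i + 1) c = Φ.sEl i (i + 1) 1 * (Φ.pairT i (i + 1) c)⁻¹ := by
    rw [pairT]; simp [mul_inv_rev]
  rw [hsel, map_mul, Module.End.mul_apply,
    ((Φ.mem_E0 ρ).1 hx).2 _ (inv_mem (h.pairT_mem_T0 (show i < n by omega) hi (by omega) hc))]
  have h1 : Ip ρ (Φ.swapVec ρ i x) u' = (Fintype.card F : ℂ) * Ip ρ (ρ (Φ.sEl i (i + 1) 1) x) u' := by
    rw [swapVec_apply, Ip_sum_left, Finset.sum_congr rfl fun t _ => show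
        Ip ρ (ρ (Φ.rEl i t) (ρ (Φ.sEl i (i + 1) 1) x)) u' = Ip ρ (ρ (Φ.sEl i (i + 1) 1) x) u' by
      conv_lhs => rw [← hu' t]
      rw [Ip_rep],
      Finset.sum_const, Finset.card_univ, nsmul_eq_mul]
  rw [← h1, hsw, ← neg_one_smul ℂ x, Ip_smul_left, neg_one_mul]

/-- The swap on `E 1` has rank one. -/
theorem Small.ip_E1 (h : Φ.Small ρ) (hn3 : n = 3) {x : V} (hx : x ∈ Φ.E0 ρ) (hx0 : x ≠ 0)
    (hxx : Φ.pr ρ 0 x = x) {u u' : V} (hu : u ∈ Φ.E ρ 1) (hu' : u' ∈ Φ.E ρ 1) {c : F} (hc : c ≠ 0) :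
    (Fintype.card F : ℂ) * Ip ρ x x * Ip ρ (ρ (Φ.sEl 0 1 c) u) u' = -(Ip ρ u x * Ip ρ x u') := by
  classical
  have hk0 : 0 < n := by omega
  have hk : 1 < n := by omega
  have := Fintype.ofFinite (Φ.W 1)
  have hxE := ((Φ.mem_E0 ρ).1 hx).1
  have hfix' : ∀ a, ρ (Φ.rEl 0 a) u' = u' := Φ.rEl_E ρ (by omega) hu'
  have hcomp : ∀ v : Φ.W 1, (Fintype.card F : ℂ) * Ip ρ x x * Ip ρ (ρ (Φ.sEl 0 1 c) (Φ.pM ρ 1 v u)) u' =
      -(Ip ρ (Φ.pM ρ 1 v u) x * Ip ρ x u') := by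
    intro v
    have hmem := Φ.pM_mem ρ hk v.1 hu
    rcases eq_or_ne v 0 with rfl | hv
    · rw [show ((0 : Φ.W 1) : ι → F) = 0 from rfl, Φ.M_zero ρ hk, show 1 + 1 = n - 1 by omega, h.E_bottom] at hmem
      have hle : finrank ℂ (Φ.E ρ n) ≤ 1 := by have := h.bound_of_fix; omega
      have hne : Φ.E ρ n ≠ ⊥ := fun hb => hx0 ((Submodule.mem_bot ℂ).1 (hb ▸ hxE))
      obtain ⟨t, ht⟩ := exists_smul_eq_of_finrank_eq_one
        (le_antisymm hle (Submodule.one_le_finrank_iff.2 hne)) (x := ⟨x, hxE⟩)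
        (fun hz => hx0 (congrArg Subtype.val hz)) ⟨_, hmem⟩
      have ht' : t • x = Φ.pM ρ 1 (0 : Φ.W 1).1 u := congrArg Subtype.val ht
      rw [← ht', map_smul, Ip_smul_left, Ip_smul_left]
      linear_combination Ip ρ x x * t * h.ip_sEl_node (i := 0) (by omega) hx hxx hfix' hc
    · obtain ⟨y, hy, hpsi⟩ : ∃ y ∈ Φ.W 1, psi F (polar ⇑Q v.1 y) ≠ 1 := by
        by_contra! hall
        refine hv (Subtype.ext (Φ.W_sep hk v.2 fun y hy => eq_zero_of_psi fun a => ?_))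
        rw [← pl_smul_right]
        exact hall _ (Submodule.smul_mem _ a hy)
      have heig := ((Φ.mem_M ρ).1 hmem).2 y hy
      have h1 : Ip ρ (Φ.pM ρ 1 v u) x = 0 := Ip_eq_zero_of_eig ρ heig
        ((Φ.mem_E ρ).1 hxE 1 hk y fun l hl => W_e hy hl) hpsi
      obtain ⟨s1, s2, -, -, -⟩ := Φ.sEl_spec hk0 hk zero_ne_one hc
      obtain ⟨g, hg⟩ : ∃ g, g = Φ.sEl 0 1 c := ⟨_, rfl⟩
      rw [← hg] at s1 s2 ⊢
      have hgy : act g y = y := hg ▸ Φ.sEl_core hk0 hk zero_ne_one hc hy zero_le_one le_rfl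
      have h2 : Φ.em (Φ.e 0) ((-c) • y) * g = g * Φ.em (Φ.e 1) y := by
        rw [Φ.mul_em g, s2, hgy, Φ.em_smul_left]
      have h3 : ρ (Φ.em (Φ.e 0) ((-c) • y)) (ρ g (Φ.pM ρ 1 v u)) = psi F (polar ⇑Q v.1 y) • ρ g (Φ.pM ρ 1 v u) := by
        rw [← Module.End.mul_apply, ← map_mul, h2, map_mul, Module.End.mul_apply, heig, map_smul]
      have h4 : Ip ρ (ρ g (Φ.pM ρ 1 v u)) u' = 0 := Ip_eq_zero_of_eig ρ h3
        ((Φ.mem_E ρ).1 hu' 0 one_pos _ fun l hl => by rw [pl_smul_right, W_e hy (by omega), mul_zero]) hpsi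
      rw [h1, h4, mul_zero, zero_mul, neg_zero]
  calc (Fintype.card F : ℂ) * Ip ρ x x * Ip ρ (ρ (Φ.sEl 0 1 c) u) u'
      = ∑ v : Φ.W 1, (Fintype.card F : ℂ) * Ip ρ x x * Ip ρ (ρ (Φ.sEl 0 1 c) (Φ.pM ρ 1 v u)) u' := by
        rw [← Finset.mul_sum, ← Ip_sum_left, ← map_sum, Φ.sum_pM ρ hk]
    _ = _ := by
        rw [Finset.sum_congr rfl fun v _ => hcomp v, Finset.sum_neg_distrib, ← Finset.sum_mul, ← Ip_sum_left,
          Φ.sum_pM ρ hk]

variable (Φ) in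
/-- Representatives for the lines of the plane of `e_1, e_2`. -/
noncomputable def Gg : Option F → OG Q
  | none => Φ.sEl 1 2 1
  | some t => Φ.Rl 1 (-t)

/-- The directions. -/
def dirv : Option F → F × F
  | none => (0, 1)
  | some t => (1, t)

theorem Gg_spec (hn : 2 < n) (l : Option F) : act (Φ.Gg l) (Φ.e 0) = Φ.e 0 ∧ act (Φ.Gg l) (Φ.f 0) = Φ.f 0 ∧
    act (Φ.Gg l) (Φ.e 1) = (dirv l).1 • Φ.e 1 + (dirv l).2 • Φ.e 2 := by
  have h0 : 0 < n := by omega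
  have h1 : 1 < n := by omega
  cases l with
  | none =>
    obtain ⟨s1, -, -, -, s5⟩ := Φ.sEl_spec h1 hn (by omega) (one_ne_zero (α := F))
    refine ⟨s5 _ (Φ.pee h1 h0) (Φ.pnfe h1 h0 one_ne_zero) (Φ.pee hn h0) (Φ.pnfe hn h0 (by omega)),
      s5 _ (Φ.pnef _ _ h1 h0 one_ne_zero) (Φ.pff h1 h0) (Φ.pnef _ _ hn h0 (by omega)) (Φ.pff hn h0), ?_⟩
    rw [Gg, s1]; simp [dirv]
  | some t =>
    have hc : polar ⇑Q (Φ.e 2) ((-t) • Φ.f 1) = 0 := by rw [pl_smul_right, Φ.pnef _ _ hn h1 (by omega), mul_zero]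
    refine ⟨Φ.act_em_fix (Φ.qe _ hn) hc (Φ.pee hn h0) (by rw [pl_smul_left, Φ.pnfe h1 h0 one_ne_zero, mul_zero]),
      Φ.act_em_fix (Φ.qe _ hn) hc (Φ.pnef _ _ hn h0 (by omega)) (by rw [pl_smul_left, Φ.pff h1 h0, mul_zero]), ?_⟩
    rw [Gg, Rl, Φ.act_em (Φ.qe _ hn) hc, Φ.pee hn h1, pl_smul_left, Φ.pfe h1]
    simp only [dirv]
    module

theorem Gg_mem (hn : 2 < n) (l : Option F) {u : V} (hu : u ∈ Φ.E ρ 1) :
    ρ (Φ.Gg l) u ∈ Φ.E ρ 1 ∧ ρ (Φ.Gg l)⁻¹ u ∈ Φ.E ρ 1 :=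
  ⟨Φ.mapsTo_E_fix ρ (fun j hj => by rw [show j = 0 by omega]; exact (Gg_spec hn l).1) hu,
    Φ.mapsTo_E_fix ρ (fun j hj => by
      rw [show j = 0 by omega]; conv_lhs => rw [← (Gg_spec (Φ := Φ) hn l).1, act_inv_act]) hu⟩

theorem Small.ip_transl (h : Φ.Small ρ) (hn3 : n = 3) {x : V} (hx : x ∈ Φ.E0 ρ) (hx0 : x ≠ 0)
    (hxx : Φ.pr ρ 0 x = x) {u u' : V} (hu : u ∈ Φ.E ρ 1) (hu' : u' ∈ Φ.E ρ 1) (l : Option F) {a : F} (ha : a ≠ 0) :
    (Fintype.card F : ℂ) * Ip ρ x x * Ip ρ (ρ (Φ.transl 0 (a • dirv l)) u) u' =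
      -(Ip ρ u (ρ (Φ.Gg l) x) * Ip ρ (ρ (Φ.Gg l) x) u') := by
  have hn : 2 < n := by omega
  obtain ⟨g1, g2, g3⟩ := Gg_spec (Φ := Φ) hn l
  obtain ⟨g, hg⟩ : ∃ g, g = Φ.Gg l := ⟨_, rfl⟩
  rw [← hg] at g1 g2 g3 ⊢
  obtain ⟨hm1, hm2⟩ : ρ g⁻¹ u ∈ Φ.E ρ 1 ∧ ρ g⁻¹ u' ∈ Φ.E ρ 1 :=
    hg ▸ ⟨(Gg_mem hn l hu).2, (Gg_mem hn l hu').2⟩
  have hback : ∀ w : V, ρ g (ρ g⁻¹ w) = w := fun w => by
    rw [← Module.End.mul_apply, ← map_mul, mul_inv_cancel, map_one, Module.End.one_apply]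
  have hT : Φ.transl 0 (a • dirv l) * g = g * Φ.transl 0 (a, 0) := by
    rw [transl, transl, Φ.mul_em g, g2, map_add, map_smul, map_smul, zero_add, g3]
    congr 2
    simp only [Prod.smul_fst, Prod.smul_snd, smul_eq_mul]
    module
  have hR : Φ.transl 0 (a, 0) = Φ.Rl 0 (-a) := by
    rw [transl, Rl, zero_smul, add_zero, zero_add,
      Φ.em_comm (Φ.qf _ (by omega)) (by rw [Q_smul, Φ.qe _ (by omega), mul_zero])
        (by rw [pl_smul_right, Φ.pnfe (by omega) (by omega) zero_ne_one, mul_zero]),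
      Φ.em_smul_left, smul_neg, neg_smul]
  have key := h.ip_E1 hn3 hx hx0 hxx hm1 hm2 (c := -(-a)⁻¹) (neg_ne_zero.2 (inv_ne_zero (neg_ne_zero.2 ha)))
  rw [← Φ.ip_Rl ρ (i := 0) (show 0 + 1 < n by omega) (Φ.rEl_E ρ (show 0 + 1 < n by omega) hm1)
      (Φ.rEl_E ρ (show 0 + 1 < n by omega) hm2) (neg_ne_zero.2 ha), ← hR] at key
  rw [← hback u, ← hback u', ← Module.End.mul_apply (ρ (Φ.transl 0 (a • dirv l))), ← map_mul, hT, map_mul,
    Module.End.mul_apply, Ip_rep, Ip_rep, Ip_rep]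
  exact key

theorem Small.gram_x (h : Φ.Small ρ) (hn3 : n = 3) {x : V} (hx : x ∈ Φ.E0 ρ) (hxx : Φ.pr ρ 1 x = x)
    {l m : Option F} (hlm : l ≠ m) :
    (Fintype.card F : ℂ) * Ip ρ (ρ (Φ.Gg l) x) (ρ (Φ.Gg m) x) = -Ip ρ x x := by
  have hi : 1 + 1 < n := by omega
  have hfix := Φ.rEl_fixed ρ hi ((Φ.mem_E0 ρ).1 hx).1
  have hns : ∀ t : F, (Fintype.card F : ℂ) * Ip ρ (ρ (Φ.Gg none) x) (ρ (Φ.Gg (some t)) x) = -Ip ρ x x := fun t => by
    have h1 : ρ (Φ.Gg none) x = ρ (Φ.Gg (some t)) (ρ (Φ.sEl 1 2 1) x) := by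
      have h2 : ρ (Φ.Rl 1 t) (ρ (Φ.sEl 1 2 1) x) = ρ (Φ.sEl 1 2 1) x := by
        rw [← Module.End.mul_apply, ← map_mul, show Φ.Rl 1 t * Φ.sEl 1 2 1 = Φ.sEl 1 2 1 * Φ.rEl 1 (-t) from
          Φ.Rl_swap hi t, map_mul, Module.End.mul_apply, hfix]
      show ρ (Φ.sEl 1 2 1) x = ρ (Φ.Rl 1 (-t)) (ρ (Φ.sEl 1 2 1) x)
      conv_rhs => rw [← h2, ← Module.End.mul_apply, ← map_mul, ← Φ.Rl_add hi, neg_add_cancel, Rl, zero_smul,
        Φ.em_zero, map_one, Module.End.one_apply]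
    rw [h1, Ip_rep]
    exact h.ip_sEl_node hi hx hxx hfix one_ne_zero
  cases l with
  | none =>
    cases m with
    | none => exact absurd rfl hlm
    | some t => exact hns t
  | some t =>
    cases m with
    | none =>
      have h1 := congrArg conj (hns t)
      rwa [map_mul, map_natCast, Ip_conj, map_neg, Ip_conj] at h1
    | some t' =>
      have hne : t' - t ≠ 0 := sub_ne_zero.2 fun e => hlm (by rw [e])
      have h1 : Φ.Rl 1 (-t) = Φ.Rl 1 (-t') * Φ.Rl 1 (t' - t) := by rw [← Φ.Rl_add hi]; congr 1; ring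
      show (Fintype.card F : ℂ) * Ip ρ (ρ (Φ.Rl 1 (-t)) x) (ρ (Φ.Rl 1 (-t')) x) = _
      rw [h1, map_mul, Module.End.mul_apply, Ip_rep, Φ.ip_Rl ρ hi hfix hfix hne]
      exact h.ip_sEl_node hi hx hxx hfix (neg_ne_zero.2 (inv_ne_zero hne))

/-- The translates of `E 1` are independent. -/
theorem Small.tr_pos (h : Φ.Small ρ) (hn3 : n = 3) {x : V} (hx : x ∈ Φ.E0 ρ) (hx0 : x ≠ 0)
    (hx1 : Φ.pr ρ 0 x = x) (hx2 : Φ.pr ρ 1 x = x) {u : F × F → V} (hu : ∀ p, u p ∈ Φ.E ρ 1)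
    (h0 : ∑ p, ρ (Φ.transl 0 p) (u p) = 0) (r : F × F) : u r = 0 := by
  classical
  have hn : 0 + 2 < n := by omega
  obtain ⟨q, hq⟩ : ∃ q : ℝ, q = (Fintype.card F : ℝ) := ⟨_, rfl⟩
  obtain ⟨N, hN⟩ : ∃ N, N = nn ρ x := ⟨_, rfl⟩
  have hqc : (q : ℂ) = (Fintype.card F : ℂ) := by rw [hq]; norm_num
  have hq0 : 0 < q := by rw [hq]; exact_mod_cast Fintype.card_pos
  have hN0 : 0 < N := hN ▸ nn_pos ρ hx0
  have hNc : Ip ρ x x = (N : ℂ) := by rw [hN, Ip_self]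
  obtain ⟨A, hA⟩ : ∃ A : Option F → F × F → ℂ, ∀ l p, A l p = Ip ρ (u p) (ρ (Φ.Gg l) x) := ⟨_, fun l p => rfl⟩
  obtain ⟨Z, hZ⟩ : ∃ Z : F × F → ℝ, ∀ d, Z d = ∑ p, (Ip ρ (ρ (Φ.transl 0 d) (u (p + d))) (u p)).re := ⟨_, fun d => rfl⟩
  have hsum : ∑ d, Z d = 0 := by
    have h1 : ∑ p', (Ip ρ (∑ p, ρ (Φ.transl 0 p) (u p)) (ρ (Φ.transl 0 p') (u p'))).re = 0 := by
      simp [h0, Ip_zero_left]
    rw [← h1, Finset.sum_congr rfl fun d _ => hZ d, Finset.sum_comm]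
    refine Finset.sum_congr rfl fun p' _ => ?_
    rw [Ip_sum_left, Complex.re_sum]
    refine Fintype.sum_equiv (Equiv.addLeft p') _ _ fun d => ?_
    rw [Equiv.coe_addLeft, transl_add hn, map_mul, Module.End.mul_apply, Ip_rep]
  have hZ0 : Z 0 = ∑ p, nn ρ (u p) := by
    rw [hZ]
    refine Finset.sum_congr rfl fun p _ => ?_
    rw [add_zero, transl_zero, map_one, Module.End.one_apply, nn]
  have hline : ∀ (l : Option F) (a : Fˣ), -∑ p, Complex.normSq (A l p) ≤ q * N * Z ((a : F) • dirv l) := by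
    intro l a
    have h1 : ∀ p, q * N * (Ip ρ (ρ (Φ.transl 0 ((a : F) • dirv l)) (u (p + (a : F) • dirv l))) (u p)).re =
        -(A l (p + (a : F) • dirv l) * conj (A l p)).re := fun p => by
      have h2 := congrArg Complex.re (h.ip_transl hn3 hx hx0 hx1 (hu (p + (a : F) • dirv l)) (hu p) l a.ne_zero)
      rw [← hqc, hNc, ← Complex.ofReal_mul, Complex.re_ofReal_mul, Complex.neg_re, ← hA,
        ← Ip_conj ρ (u p) (ρ (Φ.Gg l) x), ← hA] at h2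
      exact h2
    rw [hZ, Finset.mul_sum, Finset.sum_congr rfl fun p _ => h1 p, Finset.sum_neg_distrib, neg_le_neg_iff]
    have h3 : ∀ p, 2 * (A l (p + (a : F) • dirv l) * conj (A l p)).re ≤
        Complex.normSq (A l (p + (a : F) • dirv l)) + Complex.normSq (A l p) := fun p => by
      simp only [Complex.mul_re, Complex.conj_re, Complex.conj_im, Complex.normSq_apply]
      nlinarith [sq_nonneg ((A l (p + (a : F) • dirv l)).re - (A l p).re),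
        sq_nonneg ((A l (p + (a : F) • dirv l)).im - (A l p).im)]
    have h4 := Finset.sum_le_sum fun p (_ : p ∈ (Finset.univ : Finset (F × F))) => h3 p
    rw [← Finset.mul_sum, Finset.sum_add_distrib,
      Fintype.sum_equiv (Equiv.addRight ((a : F) • dirv l)) (fun p => Complex.normSq (A l (p + (a : F) • dirv l)))
        (fun p => Complex.normSq (A l p)) fun p => rfl] at h4
    linarith
  have hsplit : ∑ d, Z d = Z 0 + ∑ z : Option F × Fˣ, Z ((z.2 : F) • dirv z.1) := by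
    rw [← Finset.add_sum_erase _ _ (Finset.mem_univ (0 : F × F))]
    congr 1
    refine (Finset.sum_bij (fun (z : Option F × Fˣ) _ => (z.2 : F) • dirv z.1) (fun z _ => ?_) ?_ ?_
      fun z _ => rfl).symm
    · refine Finset.mem_erase.2 ⟨fun hz => ?_, Finset.mem_univ _⟩
      obtain ⟨_ | t, a⟩ := z <;> simp [dirv, Prod.ext_iff] at hz
    · rintro ⟨_ | t, a⟩ _ ⟨_ | t', a'⟩ _ he <;>
        simp [dirv, Prod.ext_iff] at he
      · exact Prod.ext rfl (Units.ext he)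
      · exact absurd he.1.symm a'.ne_zero
      · obtain ⟨h1, h2⟩ := he
        obtain rfl := Units.ext h1.symm
        simp at h2
        rw [h2]
    · rintro ⟨b1, b2⟩ hb
      have hb0 := Finset.ne_of_mem_erase hb
      rcases eq_or_ne b1 0 with rfl | h1
      · exact ⟨(none, Units.mk0 b2 fun e => hb0 (by rw [e]; rfl)), Finset.mem_univ _, by simp [dirv]⟩
      · exact ⟨(some (b2 / b1), Units.mk0 b1 h1), Finset.mem_univ _, by
          simp [dirv, mul_div_cancel₀ _ h1]⟩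
  have hbound : ∀ p, q * ∑ l, Complex.normSq (A l p) ≤ (q + 1) * N * nn ρ (u p) := fun p => by
    simp only [hA]
    exact frame_bound ρ (fun l => ρ (Φ.Gg l) x) hq0 hN0 (fun l => by rw [Ip_rep, hNc])
      (fun l m hlm => by rw [hqc, h.gram_x hn3 hx hx2 hlm, hNc]) _
  have hlow : -((q - 1) * ∑ p, ∑ l, Complex.normSq (A l p)) ≤ q * N * ∑ z : Option F × Fˣ, Z ((z.2 : F) • dirv z.1) := by
    rw [Finset.mul_sum (a := q * N)]
    refine le_trans (le_of_eq ?_) (Finset.sum_le_sum fun z _ => hline z.1 z.2)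
    rw [Finset.sum_comm, Fintype.sum_prod_type (fun i : Option F × Fˣ => -∑ p, Complex.normSq (A i.1 p))]
    dsimp only
    rw [Finset.sum_congr rfl fun l _ => Finset.sum_const (-∑ p, Complex.normSq (A l p))]
    simp only [Finset.card_univ, Fintype.card_units, nsmul_eq_mul]
    rw [← Finset.mul_sum, Finset.sum_neg_distrib, mul_neg, Nat.cast_sub Fintype.card_pos, Nat.cast_one, hq]
  have htot : q * ∑ p, ∑ l, Complex.normSq (A l p) ≤ (q + 1) * N * ∑ p, nn ρ (u p) := by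
    rw [Finset.mul_sum, Finset.mul_sum]
    exact Finset.sum_le_sum fun p _ => hbound p
  have hq1 : 1 ≤ q := by rw [hq]; exact_mod_cast Fintype.card_pos
  have hT0 : ∑ p, nn ρ (u p) = 0 := by
    rw [hsplit, hZ0] at hsum
    refine le_antisymm ?_ (Finset.sum_nonneg fun p _ => nn_nonneg ρ _)
    generalize ∑ p, ∑ l, Complex.normSq (A l p) = S at hlow htot
    generalize ∑ p, nn ρ (u p) = T at hsum htot ⊢
    generalize ∑ z : Option F × Fˣ, Z ((z.2 : F) • dirv z.1) = R at hsum hlow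
    have h1 := mul_le_mul_of_nonneg_left hlow hq0.le
    have h2 := mul_le_mul_of_nonneg_left htot (sub_nonneg.2 hq1)
    obtain rfl : R = -T := by linarith
    nlinarith
  exact nn_eq_zero ρ ((Finset.sum_eq_zero_iff_of_nonneg fun p _ => nn_nonneg ρ (u p)).1 hT0 r (Finset.mem_univ r))

theorem Small.E_le_H3 {k : ℕ} (hk : k + 3 = n) : Φ.E ρ n ≤ Φ.H3 ρ k := fun u hu => by
  have hE := (Φ.mem_E ρ).1 hu
  refine ⟨Φ.mem_K3_of_gens ρ (by omega) (Φ.E_anti ρ (by omega) hu) (fun i j hi hij hj a => ?_)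
    (fun i hi hi2 z hz => hE i (by omega) z fun l hl => Φ.Cr_e hz (by omega)), Φ.E_anti ρ (by omega) hu⟩
  exact hE i (by omega) _ fun l hl => by rw [pl_smul_right, Φ.pee (by omega) (by omega), mul_zero]

theorem Small.three_dep (h : Φ.Small ρ) (hn3 : n = 3) {x : V} (hx : x ∈ Φ.E0 ρ) (hx0 : x ≠ 0)
    (hx1 : Φ.pr ρ 0 x = x) (hx2 : Φ.pr ρ 1 x = x) : False := by
  classical
  have hk : 0 + 3 = n := by omega
  have hk1 : 1 < n := by omega
  have := Fintype.ofFinite (Φ.W (0 + 1))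
  let f : ((_ : F × F) → Φ.H3 ρ 0) →ₗ[ℂ] V :=
    ∑ p : F × F, ρ (Φ.transl 0 p) ∘ₗ (Φ.H3 ρ 0).subtype ∘ₗ LinearMap.proj p
  have hf : ∀ u, f u = ∑ p : F × F, ρ (Φ.transl 0 p) (u p : V) := fun u => by
    simp [f, LinearMap.sum_apply]
  have hmem : ∀ u, f u ∈ Φ.K3 ρ 0 := fun u => by
    rw [hf]
    exact Submodule.sum_mem _ fun p _ => transl_mapsTo (by omega) p (u p).2.1
  have hinj : Function.Injective (f.codRestrict _ hmem) :=
    LinearMap.ker_eq_bot.1 (LinearMap.ker_eq_bot'.2 fun u hu => funext fun r => Subtype.ext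
      (h.tr_pos hn3 hx hx0 hx1 hx2 (u := fun p => (u p : V)) (fun p => (u p).2.2)
        (by rw [← hf]; exact congrArg Subtype.val hu) r))
  have h1 := LinearMap.finrank_le_finrank_of_injective hinj
  rw [Module.finrank_pi_fintype, Finset.sum_const, smul_eq_mul, Finset.card_univ, Fintype.card_prod] at h1
  have h2 := h.finrank_K3_le hk
  -- two independent vectors
  obtain ⟨y, hy, hy0⟩ := h.exists_line hk (one_ne_zero (α := F))
  have hxE := ((Φ.mem_E0 ρ).1 hx).1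
  have hw : (1 : F) • Φ.e (0 + 2) ∈ Φ.W (0 + 1) :=
    Submodule.smul_mem _ _ (e_mem_W (show 0 + 2 < n by omega) (Nat.lt_succ_self _))
  have hne : (⟨_, hw⟩ : Φ.W (0 + 1)) ≠ 0 := fun he =>
    smul_ne_zero one_ne_zero (Φ.hpair (show 0 + 2 < n by omega)).ne_zero (congrArg Subtype.val he)
  have hx' : x ∈ Φ.M ρ (0 + 1) (0 : Φ.W (0 + 1)).1 := by
    rw [show ((0 : Φ.W (0 + 1)) : ι → F) = 0 from rfl, Φ.M_zero ρ hk1]
    exact Φ.E_anti ρ (by omega) hxE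
  have hli : LinearIndependent ℂ ![(⟨x, Small.E_le_H3 hk hxE⟩ : Φ.H3 ρ 0), ⟨y, h.M_le_H3 hk one_ne_zero hy⟩] := by
    rw [LinearIndependent.pair_iff]
    intro s t hst
    have h1 := congrArg (Φ.pM ρ (0 + 1) ((1 : F) • Φ.e (0 + 2))) (congrArg Subtype.val hst)
    simp only [Submodule.coe_add, Submodule.coe_smul, map_add, map_smul, Submodule.coe_zero, map_zero,
      Φ.pM_self ρ hk1 hy, Φ.pM_other ρ hk1 (v := ⟨_, hw⟩) hne hx', smul_zero, zero_add, smul_eq_zero, hy0,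
      or_false] at h1
    subst h1
    have h2 := congrArg Subtype.val hst
    simp [hx0] at h2
    exact ⟨h2, rfl⟩
  have h3 : 2 ≤ finrank ℂ (Φ.H3 ρ 0) := by simpa using hli.fintype_card_le_finrank
  have h4 : 4 ≤ Fintype.card F * Fintype.card F := Nat.mul_le_mul two_le_card two_le_card
  rw [sq] at h2
  generalize Fintype.card F * Fintype.card F = M at h1 h2 h4
  nlinarith

end Frame

end Cfsg.Agent.OrthMinusMinDegree
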