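import Cfsg.Agent.Lib.OrthMinusMinDegree.Rule
import Cfsg.Agent.EqLemmas
/-
Every torus weight of a small representation is trivial on the pair tori.
* swap_pairT, scal_trans, exists_pot, exists_perm; indep_of_separated
* Small.pair_fix: a non-trivial weight has at least n-1 distinct permutations
-/
set_option autoImplicit false
set_option linter.unusedSectionVars false

namespace Cfsg.Agent.OrthMinusMinDegree

open Cfsg Module
open Cfsg.Agent.Orth
open Cfsg.Agent.SUMinDegree (rep_injective)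
open QuadraticMap (polar)

/-- Common eigenvectors with pairwise distinct eigenvalue systems are independent. -/
theorem indep_of_separated {V : Type*} [AddCommGroup V] [Module ℂ V] {J : Type*} [DecidableEq J] (w : J → V)
    (s : Finset J) (hw : ∀ j ∈ s, w j ≠ 0)
    (hsep : ∀ a ∈ s, ∀ b ∈ s, a ≠ b → ∃ (T : V →ₗ[ℂ] V) (l : J → ℂ), (∀ j ∈ s, T (w j) = l j • w j) ∧ l a ≠ l b) :
    ∀ c : J → ℂ, ∑ j ∈ s, c j • w j = 0 → ∀ j ∈ s, c j = 0 := by
  induction s using Finset.induction_on with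
  | empty => simp
  | insert a s ha ih =>
    intro c hc
    have ih' := ih (fun j hj => hw j (Finset.mem_insert_of_mem hj)) fun x hx y hy hxy => by
      obtain ⟨T, l, hT, hl⟩ := hsep x (Finset.mem_insert_of_mem hx) y (Finset.mem_insert_of_mem hy) hxy
      exact ⟨T, l, fun j hj => hT j (Finset.mem_insert_of_mem hj), hl⟩
    have hzero : ∀ b ∈ s, c b = 0 := fun b hb => by
      obtain ⟨T, l, hT, hl⟩ := hsep a (Finset.mem_insert_self a s) b (Finset.mem_insert_of_mem hb)
        fun e => ha (e ▸ hb)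
      have h1 := congrArg T hc
      rw [map_zero, map_sum, Finset.sum_congr rfl fun j hj => show T (c j • w j) = (c j * l j) • w j by
        rw [map_smul, hT j hj, smul_smul]] at h1
      have h2 : ∑ j ∈ s, (c j * l j - l a * c j) • w j = 0 := by
        have h3 : ∑ j ∈ insert a s, (c j * l j) • w j - l a • ∑ j ∈ insert a s, c j • w j = 0 := by
          rw [h1, hc, smul_zero, sub_zero]
        rw [Finset.smul_sum, ← Finset.sum_sub_distrib, Finset.sum_insert ha] at h3
        simp only [smul_smul, ← sub_smul] at h3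
        rwa [mul_comm (l a), sub_self, zero_smul, zero_add] at h3
      have h4 : c b * (l b - l a) = 0 := by linear_combination ih' _ h2 b hb
      exact (mul_eq_zero.1 h4).resolve_right (sub_ne_zero.2 hl.symm)
    intro j hj
    rcases Finset.mem_insert.1 hj with rfl | hj
    · rw [Finset.sum_insert ha, Finset.sum_eq_zero fun b hb => by rw [hzero b hb, zero_smul], add_zero,
        smul_eq_zero] at hc
      exact hc.resolve_right (hw j (Finset.mem_insert_self j s))
    · exact hzero j hj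

variable {ι : Type} [Fintype ι] [DecidableEq ι] {F : Type*} [Field F] [Fintype F]
variable {Q : QuadraticForm F (ι → F)} {n : ℕ} {Φ : Frame Q n}
variable {V : Type} [AddCommGroup V] [Module ℂ V] [FiniteDimensional ℂ V] {ρ : Representation ℂ (OG Q) V}

namespace Frame

theorem swap_pairT {i : ℕ} (hi : i + 1 < n) {v : V} {a b : ℕ} (ha : a < n) (hb : b < n) (hab : a ≠ b) {x : F}
    (hx : x ≠ 0) {c : ℂ} (h : ρ (Φ.pairT (Equiv.swap i (i + 1) a) (Equiv.swap i (i + 1) b) x) v = c • v) :
    ρ (Φ.pairT a b x) (Φ.swapVec ρ i v) = c • Φ.swapVec ρ i v := by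
  have hD := Φ.pairT_mem_Dg ha hb hab hx
  refine Φ.swapVec_scal ρ hi hD ?_
  rw [← h]
  congr 2
  refine Φ.dg_ext (Φ.conj_swap hi hD).1 (Φ.pairT_mem_Dg (swap_lt hi ha) (swap_lt hi hb)
    ((Equiv.swap i (i + 1)).injective.ne hab) hx) fun l hl => ?_
  rw [(Φ.conj_swap hi hD).2 l hl _ (Φ.pairT_e ha hb hab hx (swap_lt hi hl)),
    Φ.pairT_e (swap_lt hi ha) (swap_lt hi hb) ((Equiv.swap i (i + 1)).injective.ne hab) hx hl]
  simp only [Equiv.swap_apply_eq_iff]

theorem pairT_one {a b : ℕ} (ha : a < n) (hb : b < n) (hab : a ≠ b) : Φ.pairT a b (1 : F) = 1 := by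
  have h := Φ.pairT_mul ha hb hab (one_ne_zero (α := F)) one_ne_zero
  rw [one_mul] at h
  exact mul_eq_left.1 h.symm

/-- A potential for the scalars of a weight. -/
theorem exists_pot {v : V} (hv : Φ.IsWt ρ v) {x : F} (hx : x ≠ 0) : ∃ f : ℕ → ℂ, (∀ a, f a ≠ 0) ∧
    ∀ a b, a < n → b < n → a ≠ b → ρ (Φ.pairT a b x) v = (f a / f b) • v := by
  have hsc : ∀ a : ℕ, ∃ c : ℂ, c ≠ 0 ∧ (a < n → a ≠ 0 → ρ (Φ.pairT a 0 x) v = c • v) := fun a => by
    by_cases ha : a < n ∧ a ≠ 0
    · obtain ⟨c, hc⟩ := hv.scal _ (Φ.pairT_mem_Dg ha.1 Φ.n_pos ha.2 hx)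
      exact ⟨c, fun hz => hv.ne (rep_injective ρ _ (by rw [hc, hz, zero_smul, map_zero])), fun _ _ => hc⟩
    · exact ⟨1, one_ne_zero, fun h1 h2 => absurd ⟨h1, h2⟩ ha⟩
  choose g hg0 hg using hsc
  refine ⟨fun a => if a = 0 then 1 else g a, fun a => by dsimp only; split_ifs; exacts [one_ne_zero, hg0 a],
    fun a b ha hb hab => ?_⟩
  obtain ⟨c, hc⟩ := hv.scal _ (Φ.pairT_mem_Dg ha hb hab hx)
  rw [hc]
  congr 1
  dsimp only
  rcases eq_or_ne b 0 with rfl | hb0
  · rw [if_neg hab, if_pos rfl, div_one]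
    exact smul_left_injective ℂ hv.ne (hc.symm.trans (hg a ha hab))
  rcases eq_or_ne a 0 with rfl | ha0
  · rw [if_pos rfl, if_neg hb0, eq_div_iff (hg0 b)]
    have h1 : ρ (Φ.pairT b 0 x * Φ.pairT 0 b x) v = v := by
      rw [Φ.pairT_symm ha hb hab hx, ← Φ.pairT_mul ha hb hab (inv_ne_zero hx) hx, inv_mul_cancel₀ hx,
        pairT_one ha hb hab, map_one, Module.End.one_apply]
    rw [map_mul, Module.End.mul_apply, hc, map_smul, hg b hb hb0, smul_smul] at h1
    exact smul_left_injective ℂ hv.ne (h1.trans (one_smul ℂ v).symm)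
  · rw [if_neg ha0, if_neg hb0, eq_div_iff (hg0 b)]
    have h1 := hg a ha ha0
    rw [← Φ.pairT_trans ha hb Φ.n_pos hab hb0 ha0 hx, map_mul, Module.End.mul_apply, hg b hb hb0, map_smul, hc,
      smul_smul, mul_comm] at h1
    exact smul_left_injective ℂ hv.ne h1

/-- Every transposition of the potential is again the potential of a weight. -/
theorem exists_perm {x : F} (hx : x ≠ 0) {g : ℕ → ℂ}
    (hg : ∃ w, Φ.IsWt ρ w ∧ ∀ a b, a < n → b < n → a ≠ b → ρ (Φ.pairT a b x) w = (g a / g b) • w)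
    {p q : ℕ} (hp : p < n) (hq : q < n) :
    ∃ w, Φ.IsWt ρ w ∧ ∀ a b, a < n → b < n → a ≠ b →
      ρ (Φ.pairT a b x) w = (g (Equiv.swap p q a) / g (Equiv.swap p q b)) • w := by
  have hadj : ∀ {g : ℕ → ℂ} {i : ℕ}, i + 1 < n →
      (∃ w, Φ.IsWt ρ w ∧ ∀ a b, a < n → b < n → a ≠ b → ρ (Φ.pairT a b x) w = (g a / g b) • w) →
      ∃ w, Φ.IsWt ρ w ∧ ∀ a b, a < n → b < n → a ≠ b →
        ρ (Φ.pairT a b x) w = (g (Equiv.swap i (i + 1) a) / g (Equiv.swap i (i + 1) b)) • w := by
    rintro g i hi ⟨w, hw, hwg⟩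
    exact ⟨_, Φ.swap_wt ρ hi hw, fun a b ha hb hab => swap_pairT hi ha hb hab hx
      (hwg _ _ (swap_lt hi ha) (swap_lt hi hb) ((Equiv.swap i (i + 1)).injective.ne hab))⟩
  wlog hpq : p ≤ q generalizing p q
  · rw [Equiv.swap_comm p q]
    exact this hq hp (le_of_not_ge hpq)
  obtain ⟨d, rfl⟩ : ∃ d, q = p + d := ⟨q - p, by omega⟩
  clear hpq
  induction d generalizing g with
  | zero => simpa using hg
  | succ d ih =>
    rcases Nat.eq_zero_or_pos d with rfl | hd
    · exact hadj hq hg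
    have hi : p + d + 1 < n := by omega
    obtain ⟨w, hw, hwg⟩ := hadj hi (ih (g := fun l => g (Equiv.swap (p + d) (p + d + 1) l)) (hadj hi hg) (by omega))
    refine ⟨w, hw, fun a b ha hb hab => ?_⟩
    have key : ∀ l, Equiv.swap (p + d) (p + d + 1) (Equiv.swap p (p + d) (Equiv.swap (p + d) (p + d + 1) l)) =
        Equiv.swap p (p + (d + 1)) l := fun l => by
      simp only [Equiv.swap_apply_def]
      split_ifs <;> omega
    rw [hwg a b ha hb hab, key, key]

/-- Every weight is trivial on the pair tori. -/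
theorem Small.pair_fix (h : Φ.Small ρ) {v : V} (hv : Φ.IsWt ρ v) {i j : ℕ} (hi : i < n) (hj : j < n)
    (hij : i ≠ j) {x : F} (hx : x ≠ 0) : ρ (Φ.pairT i j x) v = v := by
  classical
  by_contra hne
  have hn := h.hn
  obtain ⟨f, hf0, hf⟩ := exists_pot hv hx
  have hfij : f i ≠ f j := fun e => hne (by rw [hf i j hi hj hij, e, div_self (hf0 j), one_smul])
  -- the transpositions
  obtain ⟨π, hπ⟩ : ∃ π : ℕ → Equiv.Perm ℕ,
      ∀ l, π l = if l = j then 1 else if f l = f i then Equiv.swap l j else Equiv.swap i l := ⟨_, fun l => rfl⟩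
  obtain ⟨s, hscard, hsn, hout⟩ : ∃ s : Finset ℕ, n ≤ s.card + 1 ∧ (∀ l ∈ s, l < n) ∧
      ∀ a ∈ s, ∀ b ∈ s, ∃ t < n, t ≠ a ∧ t ≠ b ∧ t ≠ i ∧ t ≠ j := by
    rcases Nat.lt_or_ge n 5 with h5 | h5
    · obtain ⟨t, ht, hti, htj⟩ : ∃ t < n, t ≠ i ∧ t ≠ j := by
        by_contra! hc
        have := hc 0 (by omega); have := hc 1 (by omega); have := hc 2 (by omega)
        omega
      refine ⟨(Finset.range n).erase t, ?_, fun l hl => by simp at hl; exact hl.2, fun a ha b hb =>
        ⟨t, ht, fun e => ?_, fun e => ?_, hti, htj⟩⟩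
      · rw [Finset.card_erase_add_one (by simpa using ht), Finset.card_range]
      · exact (Finset.mem_erase.1 ha).1 e.symm
      · exact (Finset.mem_erase.1 hb).1 e.symm
    · refine ⟨Finset.range n, by simp, fun l hl => by simpa using hl, fun a _ b _ => ?_⟩
      obtain ⟨t, ht, ht'⟩ := Finset.exists_mem_notMem_of_card_lt_card (s := {a, b, i, j}) (t := Finset.range n)
        (lt_of_le_of_lt (le_trans (Finset.card_insert_le _ _) (Nat.succ_le_succ (le_trans (Finset.card_insert_le _ _)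
          (Nat.succ_le_succ (Finset.card_le_two))))) (by simp; omega))
      simp only [Finset.mem_insert, Finset.mem_singleton, not_or] at ht'
      exact ⟨t, Finset.mem_range.1 ht, ht'.1, ht'.2.1, ht'.2.2.1, ht'.2.2.2⟩
  have hw : ∀ l : ℕ, ∃ w : V, l < n → Φ.IsWt ρ w ∧
      ∀ a b, a < n → b < n → a ≠ b → ρ (Φ.pairT a b x) w = (f (π l a) / f (π l b)) • w := fun l => by
    by_cases hl : l < n
    · have hbase : ∃ w, Φ.IsWt ρ w ∧ ∀ a b, a < n → b < n → a ≠ b → ρ (Φ.pairT a b x) w = (f a / f b) • w :=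
        ⟨v, hv, hf⟩
      rw [hπ]
      split_ifs
      · exact ⟨v, fun _ => ⟨hv, hf⟩⟩
      · exact (exists_perm hx hbase hl hj).imp fun w hw _ => hw
      · exact (exists_perm hx hbase hi hl).imp fun w hw _ => hw
    · exact ⟨0, fun h' => absurd h' hl⟩
  choose w hw using hw
  -- a point distinguishing two transpositions
  have hdiff : ∀ a ∈ s, ∀ b ∈ s, a ≠ b → ∃ z < n, f (π a z) ≠ f (π b z) := by
    intro a ha b hb hab
    have key : ∀ a b, a < n → b < n → a ≠ b → a ≠ j → (b = j ∨ f a = f i ∨ f b ≠ f i) →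
        ∃ z < n, f (π a z) ≠ f (π b z) := by
      intro a b ha hb hab haj hcase
      by_cases hfa : f a = f i
      · refine ⟨if b = j ∨ f b ≠ f i then j else a, by split_ifs <;> assumption, ?_⟩
        rw [hπ a, if_neg haj, if_pos hfa, hπ b]
        by_cases hbj : b = j
        · rw [if_pos hbj, if_pos (Or.inl hbj), Equiv.swap_apply_right, Equiv.Perm.one_apply, hfa]
          exact hfij
        rw [if_neg hbj]
        by_cases hfb : f b = f i
        · rw [if_neg (by simp [hbj, hfb]), if_pos hfb, Equiv.swap_apply_left,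
            Equiv.swap_apply_of_ne_of_ne hab haj, hfa]
          exact hfij.symm
        · rw [if_pos (Or.inr hfb), if_neg hfb, Equiv.swap_apply_right,
            Equiv.swap_apply_of_ne_of_ne hij.symm (Ne.symm hbj), hfa]
          exact hfij
      · refine ⟨if b = j then i else a, by split_ifs <;> assumption, ?_⟩
        rw [hπ a, if_neg haj, if_neg hfa, hπ b]
        by_cases hbj : b = j
        · rw [if_pos hbj, if_pos hbj, Equiv.swap_apply_left, Equiv.Perm.one_apply]
          exact hfa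
        · have hfb : f b ≠ f i := by rcases hcase with h1 | h1 | h1; exacts [absurd h1 hbj, absurd h1 hfa, h1]
          rw [if_neg hbj, if_neg hbj, if_neg hfb, Equiv.swap_apply_right,
            Equiv.swap_apply_of_ne_of_ne (fun e => hfa (by rw [e])) hab]
          exact fun e => hfa e.symm
    rcases eq_or_ne a j with haj | haj
    · obtain ⟨z, hz, hzne⟩ := key b a (hsn b hb) (hsn a ha) hab.symm (fun e => hab (haj.trans e.symm)) (Or.inl haj)
      exact ⟨z, hz, hzne.symm⟩
    by_cases hcase : b = j ∨ f a = f i ∨ f b ≠ f i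
    · exact key a b (hsn a ha) (hsn b hb) hab haj hcase
    · push Not at hcase
      obtain ⟨z, hz, hzne⟩ := key b a (hsn b hb) (hsn a ha) hab.symm hcase.1 (Or.inr (Or.inl hcase.2.2))
      exact ⟨z, hz, hzne.symm⟩
  have hfixt : ∀ (l t : ℕ), t ≠ l → t ≠ i → t ≠ j → π l t = t := fun l t h1 h2 h3 => by
    rw [hπ]
    split_ifs
    · rfl
    · exact Equiv.swap_apply_of_ne_of_ne h1 h3
    · exact Equiv.swap_apply_of_ne_of_ne h2 h1
  have hind := indep_of_separated w s (fun l hl => (hw l (hsn l hl)).1.ne) fun a ha b hb hab => by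
    obtain ⟨t, ht, hta, htb, hti, htj⟩ := hout a ha b hb
    obtain ⟨z, hz, hzne⟩ := hdiff a ha b hb hab
    have hzt : z ≠ t := fun e => hzne (by rw [e, hfixt a t hta hti htj, hfixt b t htb hti htj])
    refine ⟨ρ (Φ.pairT z t x), fun l => f (π l z) / f (π l t), fun l hl => (hw l (hsn l hl)).2 z t hz ht hzt, ?_⟩
    dsimp only
    rw [hfixt a t hta hti htj, hfixt b t htb hti htj]
    exact fun e => hzne (by rwa [div_left_inj' (hf0 t)] at e)
  have hli : LinearIndependent ℂ fun l : s => (⟨w l, (hw l.1 (hsn _ l.2)).1.mem⟩ : Φ.E ρ n) := by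
    refine Fintype.linearIndependent_iff.2 fun c hc l => ?_
    have h1 := hind (fun m => if hm : m ∈ s then c ⟨m, hm⟩ else 0) (by
      rw [← Finset.sum_attach]
      have h2 := congrArg Subtype.val hc
      simpa using h2) l.1 l.2
    simpa using h1
  have h1 := hli.fintype_card_le_finrank
  rw [Fintype.card_coe] at h1
  have h2 := h.bound_of_fix
  omega

end Frame

end Cfsg.Agent.OrthMinusMinDegree
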